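import Mathlib.Data.List.Basic

/-!
# Data for the subgroups of index 122760 of O'Nan (generated)

The conjugates of a in the centraliser of f, the action of four generators on them, and the tables that show that
every six-tuple with the relations of the six involutions extends to all generators.
-/

set_option autoImplicit false
set_option maxRecDepth 100000

namespace CfsgLib.ONanRec.Sub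

/-- A word exchanging a and f by conjugation. -/
def swapWord : List ℕ := [1,6,2,1,7,3,2,3,1,2,3,2,1,4,3,2,3,2,4,3,2,6,4,3,7,4,1,6,2,1,7,3,2,3,1,2,3,2,1]

/-- The 630 conjugates of a. -/
def xWords : List (List ℕ) := [
  [0], [1,0,1], [2,1,0,1,2], [6,1,0,1,7], [7,1,0,1,6], [3,2,1,0,1,2,3], [6,2,1,0,1,2,7], [7,2,1,0,1,2,6],
  [1,6,1,0,1,7,1], [2,6,1,0,1,7,2], [6,6,1,0,1,7,7], [1,7,1,0,1,6,1], [2,7,1,0,1,6,2], [2,3,2,1,0,1,2,3,2],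
  [6,3,2,1,0,1,2,3,7], [7,3,2,1,0,1,2,3,6], [1,6,2,1,0,1,2,7,1], [6,6,2,1,0,1,2,7,7], [1,7,2,1,0,1,2,6,1],
  [2,7,2,1,0,1,2,6,2], [2,1,6,1,0,1,7,1,2], [1,2,6,1,0,1,7,2,1], [3,2,6,1,0,1,7,2,3], [7,2,6,1,0,1,7,2,6],
  [6,1,7,1,0,1,6,1,7], [1,2,7,1,0,1,6,2,1], [3,2,7,1,0,1,6,2,3], [1,2,3,2,1,0,1,2,3,2,1],
  [3,2,3,2,1,0,1,2,3,2,3], [6,2,3,2,1,0,1,2,3,2,7], [7,2,3,2,1,0,1,2,3,2,6], [1,6,3,2,1,0,1,2,3,7,1],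
  [2,6,3,2,1,0,1,2,3,7,2], [6,6,3,2,1,0,1,2,3,7,7], [1,7,3,2,1,0,1,2,3,6,1], [2,7,3,2,1,0,1,2,3,6,2],
  [6,1,6,2,1,0,1,2,7,1,7], [7,1,6,2,1,0,1,2,7,1,6], [1,6,6,2,1,0,1,2,7,7,1], [2,1,7,2,1,0,1,2,6,1,2],
  [6,1,7,2,1,0,1,2,6,1,7], [7,1,7,2,1,0,1,2,6,1,6], [1,2,1,6,1,0,1,7,1,2,1], [3,2,1,6,1,0,1,7,1,2,3],
  [3,1,2,6,1,0,1,7,2,1,3], [7,1,2,6,1,0,1,7,2,1,6], [7,3,2,6,1,0,1,7,2,3,6], [3,1,2,7,1,0,1,6,2,1,3],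
  [6,1,2,7,1,0,1,6,2,1,7], [7,1,2,7,1,0,1,6,2,1,6], [3,1,2,3,2,1,0,1,2,3,2,1,3],
  [6,1,2,3,2,1,0,1,2,3,2,1,7], [7,1,2,3,2,1,0,1,2,3,2,1,6], [1,6,2,3,2,1,0,1,2,3,2,7,1],
  [1,7,2,3,2,1,0,1,2,3,2,6,1], [2,1,6,3,2,1,0,1,2,3,7,1,2], [6,1,6,3,2,1,0,1,2,3,7,1,7],
  [7,1,6,3,2,1,0,1,2,3,7,1,6], [1,2,6,3,2,1,0,1,2,3,7,2,1], [6,2,6,3,2,1,0,1,2,3,7,2,7],
  [7,2,6,3,2,1,0,1,2,3,7,2,6], [1,6,6,3,2,1,0,1,2,3,7,7,1], [2,1,7,3,2,1,0,1,2,3,6,1,2],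
  [6,1,7,3,2,1,0,1,2,3,6,1,7], [7,1,7,3,2,1,0,1,2,3,6,1,6], [1,2,7,3,2,1,0,1,2,3,6,2,1],
  [6,6,1,6,2,1,0,1,2,7,1,7,7], [1,7,1,6,2,1,0,1,2,7,1,6,1], [6,1,6,6,2,1,0,1,2,7,7,1,7],
  [3,2,1,7,2,1,0,1,2,6,1,2,3], [6,2,1,7,2,1,0,1,2,6,1,2,7], [1,6,1,7,2,1,0,1,2,6,1,7,1],
  [2,6,1,7,2,1,0,1,2,6,1,7,2], [6,6,1,7,2,1,0,1,2,6,1,7,7], [2,7,1,7,2,1,0,1,2,6,1,6,2],
  [3,1,2,1,6,1,0,1,7,1,2,1,3], [6,1,2,1,6,1,0,1,7,1,2,1,7], [7,1,2,1,6,1,0,1,7,1,2,1,6],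
  [2,3,1,2,6,1,0,1,7,2,1,3,2], [7,3,1,2,6,1,0,1,7,2,1,3,6], [1,7,1,2,6,1,0,1,7,2,1,6,1],
  [2,3,1,2,7,1,0,1,6,2,1,3,2], [6,3,1,2,7,1,0,1,6,2,1,3,7], [7,3,1,2,7,1,0,1,6,2,1,3,6],
  [1,6,1,2,7,1,0,1,6,2,1,7,1], [6,6,1,2,7,1,0,1,6,2,1,7,7], [2,3,1,2,3,2,1,0,1,2,3,2,1,3,2],
  [6,3,1,2,3,2,1,0,1,2,3,2,1,3,7], [7,3,1,2,3,2,1,0,1,2,3,2,1,3,6], [1,6,1,2,3,2,1,0,1,2,3,2,1,7,1],
  [2,6,1,2,3,2,1,0,1,2,3,2,1,7,2], [6,6,1,2,3,2,1,0,1,2,3,2,1,7,7], [1,7,1,2,3,2,1,0,1,2,3,2,1,6,1],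
  [2,7,1,2,3,2,1,0,1,2,3,2,1,6,2], [2,1,6,2,3,2,1,0,1,2,3,2,7,1,2], [6,1,6,2,3,2,1,0,1,2,3,2,7,1,7],
  [7,1,6,2,3,2,1,0,1,2,3,2,7,1,6], [2,1,7,2,3,2,1,0,1,2,3,2,6,1,2], [6,1,7,2,3,2,1,0,1,2,3,2,6,1,7],
  [7,1,7,2,3,2,1,0,1,2,3,2,6,1,6], [1,2,1,6,3,2,1,0,1,2,3,7,1,2,1], [3,2,1,6,3,2,1,0,1,2,3,7,1,2,3],
  [6,2,1,6,3,2,1,0,1,2,3,7,1,2,7], [7,2,1,6,3,2,1,0,1,2,3,7,1,2,6], [2,6,1,6,3,2,1,0,1,2,3,7,1,7,2],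
  [6,6,1,6,3,2,1,0,1,2,3,7,1,7,7], [1,7,1,6,3,2,1,0,1,2,3,7,1,6,1], [2,7,1,6,3,2,1,0,1,2,3,7,1,6,2],
  [6,1,2,6,3,2,1,0,1,2,3,7,2,1,7], [7,1,2,6,3,2,1,0,1,2,3,7,2,1,6], [1,6,2,6,3,2,1,0,1,2,3,7,2,7,1],
  [1,7,2,6,3,2,1,0,1,2,3,7,2,6,1], [2,1,6,6,3,2,1,0,1,2,3,7,7,1,2], [6,1,6,6,3,2,1,0,1,2,3,7,7,1,7],
  [1,2,1,7,3,2,1,0,1,2,3,6,1,2,1], [3,2,1,7,3,2,1,0,1,2,3,6,1,2,3], [6,2,1,7,3,2,1,0,1,2,3,6,1,2,7],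
  [7,2,1,7,3,2,1,0,1,2,3,6,1,2,6], [1,6,1,7,3,2,1,0,1,2,3,6,1,7,1], [2,6,1,7,3,2,1,0,1,2,3,6,1,7,2],
  [6,6,1,7,3,2,1,0,1,2,3,6,1,7,7], [2,7,1,7,3,2,1,0,1,2,3,6,1,6,2], [6,1,2,7,3,2,1,0,1,2,3,6,2,1,7],
  [7,1,2,7,3,2,1,0,1,2,3,6,2,1,6], [2,6,1,6,6,2,1,0,1,2,7,7,1,7,2], [2,3,2,1,7,2,1,0,1,2,6,1,2,3,2],
  [6,3,2,1,7,2,1,0,1,2,6,1,2,3,7], [3,2,6,1,7,2,1,0,1,2,6,1,7,2,3], [3,2,7,1,7,2,1,0,1,2,6,1,6,2,3],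
  [6,3,1,2,1,6,1,0,1,7,1,2,1,3,7], [7,3,1,2,1,6,1,0,1,7,1,2,1,3,6], [3,2,3,1,2,6,1,0,1,7,2,1,3,2,3],
  [6,2,3,1,2,6,1,0,1,7,2,1,3,2,7], [7,2,3,1,2,6,1,0,1,7,2,1,3,2,6], [1,7,3,1,2,6,1,0,1,7,2,1,3,6,1],
  [2,7,3,1,2,6,1,0,1,7,2,1,3,6,2], [3,2,3,1,2,7,1,0,1,6,2,1,3,2,3], [1,6,3,1,2,7,1,0,1,6,2,1,3,7,1],
  [6,6,3,1,2,7,1,0,1,6,2,1,3,7,7], [3,2,3,1,2,3,2,1,0,1,2,3,2,1,3,2,3],
  [6,2,3,1,2,3,2,1,0,1,2,3,2,1,3,2,7], [7,2,3,1,2,3,2,1,0,1,2,3,2,1,3,2,6],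
  [1,6,3,1,2,3,2,1,0,1,2,3,2,1,3,7,1], [2,6,3,1,2,3,2,1,0,1,2,3,2,1,3,7,2],
  [6,6,3,1,2,3,2,1,0,1,2,3,2,1,3,7,7], [1,7,3,1,2,3,2,1,0,1,2,3,2,1,3,6,1],
  [2,7,3,1,2,3,2,1,0,1,2,3,2,1,3,6,2], [2,1,6,1,2,3,2,1,0,1,2,3,2,1,7,1,2],
  [6,1,6,1,2,3,2,1,0,1,2,3,2,1,7,1,7], [7,1,6,1,2,3,2,1,0,1,2,3,2,1,7,1,6],
  [1,2,6,1,2,3,2,1,0,1,2,3,2,1,7,2,1], [3,2,6,1,2,3,2,1,0,1,2,3,2,1,7,2,3],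
  [6,2,6,1,2,3,2,1,0,1,2,3,2,1,7,2,7], [7,2,6,1,2,3,2,1,0,1,2,3,2,1,7,2,6],
  [2,1,7,1,2,3,2,1,0,1,2,3,2,1,6,1,2], [6,1,7,1,2,3,2,1,0,1,2,3,2,1,6,1,7],
  [7,1,7,1,2,3,2,1,0,1,2,3,2,1,6,1,6], [1,2,7,1,2,3,2,1,0,1,2,3,2,1,6,2,1],
  [3,2,7,1,2,3,2,1,0,1,2,3,2,1,6,2,3], [3,2,1,6,2,3,2,1,0,1,2,3,2,7,1,2,3],
  [6,2,1,6,2,3,2,1,0,1,2,3,2,7,1,2,7], [7,2,1,6,2,3,2,1,0,1,2,3,2,7,1,2,6],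
  [2,6,1,6,2,3,2,1,0,1,2,3,2,7,1,7,2], [6,6,1,6,2,3,2,1,0,1,2,3,2,7,1,7,7],
  [1,7,1,6,2,3,2,1,0,1,2,3,2,7,1,6,1], [2,7,1,6,2,3,2,1,0,1,2,3,2,7,1,6,2],
  [3,2,1,7,2,3,2,1,0,1,2,3,2,6,1,2,3], [6,2,1,7,2,3,2,1,0,1,2,3,2,6,1,2,7],
  [7,2,1,7,2,3,2,1,0,1,2,3,2,6,1,2,6], [1,6,1,7,2,3,2,1,0,1,2,3,2,6,1,7,1],
  [2,6,1,7,2,3,2,1,0,1,2,3,2,6,1,7,2], [6,6,1,7,2,3,2,1,0,1,2,3,2,6,1,7,7],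
  [2,7,1,7,2,3,2,1,0,1,2,3,2,6,1,6,2], [3,1,2,1,6,3,2,1,0,1,2,3,7,1,2,1,3],
  [6,1,2,1,6,3,2,1,0,1,2,3,7,1,2,1,7], [7,1,2,1,6,3,2,1,0,1,2,3,7,1,2,1,6],
  [2,3,2,1,6,3,2,1,0,1,2,3,7,1,2,3,2], [6,3,2,1,6,3,2,1,0,1,2,3,7,1,2,3,7],
  [7,3,2,1,6,3,2,1,0,1,2,3,7,1,2,3,6], [6,6,2,1,6,3,2,1,0,1,2,3,7,1,2,7,7],
  [1,7,2,1,6,3,2,1,0,1,2,3,7,1,2,6,1], [1,2,6,1,6,3,2,1,0,1,2,3,7,1,7,2,1],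
  [3,2,6,1,6,3,2,1,0,1,2,3,7,1,7,2,3], [6,2,6,1,6,3,2,1,0,1,2,3,7,1,7,2,7],
  [1,2,7,1,6,3,2,1,0,1,2,3,7,1,6,2,1], [3,2,7,1,6,3,2,1,0,1,2,3,7,1,6,2,3],
  [2,6,1,2,6,3,2,1,0,1,2,3,7,2,1,7,2], [6,6,1,2,6,3,2,1,0,1,2,3,7,2,1,7,7],
  [1,7,1,2,6,3,2,1,0,1,2,3,7,2,1,6,1], [2,7,1,2,6,3,2,1,0,1,2,3,7,2,1,6,2],
  [2,1,6,2,6,3,2,1,0,1,2,3,7,2,7,1,2], [6,1,6,2,6,3,2,1,0,1,2,3,7,2,7,1,7],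
  [7,1,6,2,6,3,2,1,0,1,2,3,7,2,7,1,6], [2,1,7,2,6,3,2,1,0,1,2,3,7,2,6,1,2],
  [6,1,7,2,6,3,2,1,0,1,2,3,7,2,6,1,7], [3,2,1,6,6,3,2,1,0,1,2,3,7,7,1,2,3],
  [6,2,1,6,6,3,2,1,0,1,2,3,7,7,1,2,7], [2,6,1,6,6,3,2,1,0,1,2,3,7,7,1,7,2],
  [3,1,2,1,7,3,2,1,0,1,2,3,6,1,2,1,3], [6,1,2,1,7,3,2,1,0,1,2,3,6,1,2,1,7],
  [7,1,2,1,7,3,2,1,0,1,2,3,6,1,2,1,6], [2,3,2,1,7,3,2,1,0,1,2,3,6,1,2,3,2],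
  [6,3,2,1,7,3,2,1,0,1,2,3,6,1,2,3,7], [7,3,2,1,7,3,2,1,0,1,2,3,6,1,2,3,6],
  [1,6,2,1,7,3,2,1,0,1,2,3,6,1,2,7,1], [6,6,2,1,7,3,2,1,0,1,2,3,6,1,2,7,7],
  [1,2,6,1,7,3,2,1,0,1,2,3,6,1,7,2,1], [3,2,6,1,7,3,2,1,0,1,2,3,6,1,7,2,3],
  [6,2,6,1,7,3,2,1,0,1,2,3,6,1,7,2,7], [7,2,6,1,7,3,2,1,0,1,2,3,6,1,7,2,6],
  [1,2,7,1,7,3,2,1,0,1,2,3,6,1,6,2,1], [3,2,7,1,7,3,2,1,0,1,2,3,6,1,6,2,3],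
  [1,6,1,2,7,3,2,1,0,1,2,3,6,2,1,7,1], [2,6,1,2,7,3,2,1,0,1,2,3,6,2,1,7,2],
  [6,6,1,2,7,3,2,1,0,1,2,3,6,2,1,7,7], [1,7,1,2,7,3,2,1,0,1,2,3,6,2,1,6,1],
  [2,7,1,2,7,3,2,1,0,1,2,3,6,2,1,6,2], [3,2,6,1,6,6,2,1,0,1,2,7,7,1,7,2,3],
  [3,2,3,2,1,7,2,1,0,1,2,6,1,2,3,2,3], [6,2,3,2,1,7,2,1,0,1,2,6,1,2,3,2,7],
  [7,2,3,2,1,7,2,1,0,1,2,6,1,2,3,2,6], [2,6,3,2,1,7,2,1,0,1,2,6,1,2,3,7,2],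
  [6,3,2,3,1,2,6,1,0,1,7,2,1,3,2,3,7], [7,3,2,3,1,2,6,1,0,1,7,2,1,3,2,3,6],
  [1,6,2,3,1,2,6,1,0,1,7,2,1,3,2,7,1], [1,7,2,3,1,2,6,1,0,1,7,2,1,3,2,6,1],
  [1,2,7,3,1,2,6,1,0,1,7,2,1,3,6,2,1], [2,3,2,3,1,2,7,1,0,1,6,2,1,3,2,3,2],
  [2,1,6,3,1,2,7,1,0,1,6,2,1,3,7,1,2], [2,3,2,3,1,2,3,2,1,0,1,2,3,2,1,3,2,3,2],
  [6,3,2,3,1,2,3,2,1,0,1,2,3,2,1,3,2,3,7], [7,3,2,3,1,2,3,2,1,0,1,2,3,2,1,3,2,3,6],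
  [1,6,2,3,1,2,3,2,1,0,1,2,3,2,1,3,2,7,1], [6,6,2,3,1,2,3,2,1,0,1,2,3,2,1,3,2,7,7],
  [1,7,2,3,1,2,3,2,1,0,1,2,3,2,1,3,2,6,1], [2,1,6,3,1,2,3,2,1,0,1,2,3,2,1,3,7,1,2],
  [7,1,6,3,1,2,3,2,1,0,1,2,3,2,1,3,7,1,6], [1,2,6,3,1,2,3,2,1,0,1,2,3,2,1,3,7,2,1],
  [3,2,6,3,1,2,3,2,1,0,1,2,3,2,1,3,7,2,3], [6,2,6,3,1,2,3,2,1,0,1,2,3,2,1,3,7,2,7],
  [7,2,6,3,1,2,3,2,1,0,1,2,3,2,1,3,7,2,6], [2,1,7,3,1,2,3,2,1,0,1,2,3,2,1,3,6,1,2],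
  [6,1,7,3,1,2,3,2,1,0,1,2,3,2,1,3,6,1,7], [1,2,7,3,1,2,3,2,1,0,1,2,3,2,1,3,6,2,1],
  [3,2,7,3,1,2,3,2,1,0,1,2,3,2,1,3,6,2,3], [1,2,1,6,1,2,3,2,1,0,1,2,3,2,1,7,1,2,1],
  [3,2,1,6,1,2,3,2,1,0,1,2,3,2,1,7,1,2,3], [6,6,1,6,1,2,3,2,1,0,1,2,3,2,1,7,1,7,7],
  [7,1,2,6,1,2,3,2,1,0,1,2,3,2,1,7,2,1,6], [6,3,2,6,1,2,3,2,1,0,1,2,3,2,1,7,2,3,7],
  [1,6,2,6,1,2,3,2,1,0,1,2,3,2,1,7,2,7,1], [1,2,1,7,1,2,3,2,1,0,1,2,3,2,1,6,1,2,1],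
  [3,2,1,7,1,2,3,2,1,0,1,2,3,2,1,6,1,2,3], [6,2,1,7,1,2,3,2,1,0,1,2,3,2,1,6,1,2,7],
  [2,6,1,7,1,2,3,2,1,0,1,2,3,2,1,6,1,7,2], [6,6,1,7,1,2,3,2,1,0,1,2,3,2,1,6,1,7,7],
  [2,7,1,7,1,2,3,2,1,0,1,2,3,2,1,6,1,6,2], [3,1,2,7,1,2,3,2,1,0,1,2,3,2,1,6,2,1,3],
  [6,1,2,7,1,2,3,2,1,0,1,2,3,2,1,6,2,1,7], [2,3,2,1,6,2,3,2,1,0,1,2,3,2,7,1,2,3,2],
  [6,3,2,1,6,2,3,2,1,0,1,2,3,2,7,1,2,3,7], [7,3,2,1,6,2,3,2,1,0,1,2,3,2,7,1,2,3,6],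
  [1,6,2,1,6,2,3,2,1,0,1,2,3,2,7,1,2,7,1], [6,6,2,1,6,2,3,2,1,0,1,2,3,2,7,1,2,7,7],
  [1,7,2,1,6,2,3,2,1,0,1,2,3,2,7,1,2,6,1], [1,2,6,1,6,2,3,2,1,0,1,2,3,2,7,1,7,2,1],
  [3,2,6,1,6,2,3,2,1,0,1,2,3,2,7,1,7,2,3], [6,2,6,1,6,2,3,2,1,0,1,2,3,2,7,1,7,2,7],
  [6,1,7,1,6,2,3,2,1,0,1,2,3,2,7,1,6,1,7], [1,2,7,1,6,2,3,2,1,0,1,2,3,2,7,1,6,2,1],
  [3,2,7,1,6,2,3,2,1,0,1,2,3,2,7,1,6,2,3], [2,3,2,1,7,2,3,2,1,0,1,2,3,2,6,1,2,3,2],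
  [7,3,2,1,7,2,3,2,1,0,1,2,3,2,6,1,2,3,6], [6,6,2,1,7,2,3,2,1,0,1,2,3,2,6,1,2,7,7],
  [2,1,6,1,7,2,3,2,1,0,1,2,3,2,6,1,7,1,2], [7,1,6,1,7,2,3,2,1,0,1,2,3,2,6,1,7,1,6],
  [1,2,6,1,7,2,3,2,1,0,1,2,3,2,6,1,7,2,1], [3,2,6,1,7,2,3,2,1,0,1,2,3,2,6,1,7,2,3],
  [6,2,6,1,7,2,3,2,1,0,1,2,3,2,6,1,7,2,7], [7,2,6,1,7,2,3,2,1,0,1,2,3,2,6,1,7,2,6],
  [1,2,7,1,7,2,3,2,1,0,1,2,3,2,6,1,6,2,1], [3,2,7,1,7,2,3,2,1,0,1,2,3,2,6,1,6,2,3],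
  [2,3,1,2,1,6,3,2,1,0,1,2,3,7,1,2,1,3,2], [7,3,1,2,1,6,3,2,1,0,1,2,3,7,1,2,1,3,6],
  [6,6,1,2,1,6,3,2,1,0,1,2,3,7,1,2,1,7,7], [1,7,1,2,1,6,3,2,1,0,1,2,3,7,1,2,1,6,1],
  [1,2,3,2,1,6,3,2,1,0,1,2,3,7,1,2,3,2,1], [1,7,3,2,1,6,3,2,1,0,1,2,3,7,1,2,3,6,1],
  [1,6,6,2,1,6,3,2,1,0,1,2,3,7,1,2,7,7,1], [2,1,7,2,1,6,3,2,1,0,1,2,3,7,1,2,6,1,2],
  [6,1,7,2,1,6,3,2,1,0,1,2,3,7,1,2,6,1,7], [7,1,7,2,1,6,3,2,1,0,1,2,3,7,1,2,6,1,6],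
  [6,1,2,6,1,6,3,2,1,0,1,2,3,7,1,7,2,1,7], [7,1,2,6,1,6,3,2,1,0,1,2,3,7,1,7,2,1,6],
  [1,6,2,6,1,6,3,2,1,0,1,2,3,7,1,7,2,7,1], [6,1,2,7,1,6,3,2,1,0,1,2,3,7,1,6,2,1,7],
  [3,2,6,1,2,6,3,2,1,0,1,2,3,7,2,1,7,2,3], [7,2,6,1,2,6,3,2,1,0,1,2,3,7,2,1,7,2,6],
  [7,1,7,1,2,6,3,2,1,0,1,2,3,7,2,1,6,1,6], [3,2,1,6,2,6,3,2,1,0,1,2,3,7,2,7,1,2,3],
  [7,2,1,6,2,6,3,2,1,0,1,2,3,7,2,7,1,2,6], [2,6,1,6,2,6,3,2,1,0,1,2,3,7,2,7,1,7,2],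
  [6,6,1,6,2,6,3,2,1,0,1,2,3,7,2,7,1,7,7], [2,7,1,6,2,6,3,2,1,0,1,2,3,7,2,7,1,6,2],
  [3,2,1,7,2,6,3,2,1,0,1,2,3,7,2,6,1,2,3], [7,2,1,7,2,6,3,2,1,0,1,2,3,7,2,6,1,2,6],
  [1,6,1,7,2,6,3,2,1,0,1,2,3,7,2,6,1,7,1], [2,6,1,7,2,6,3,2,1,0,1,2,3,7,2,6,1,7,2],
  [6,3,2,1,6,6,3,2,1,0,1,2,3,7,7,1,2,3,7], [1,6,2,1,6,6,3,2,1,0,1,2,3,7,7,1,2,7,1],
  [1,2,6,1,6,6,3,2,1,0,1,2,3,7,7,1,7,2,1], [3,2,6,1,6,6,3,2,1,0,1,2,3,7,7,1,7,2,3],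
  [2,3,1,2,1,7,3,2,1,0,1,2,3,6,1,2,1,3,2], [6,3,1,2,1,7,3,2,1,0,1,2,3,6,1,2,1,3,7],
  [7,3,1,2,1,7,3,2,1,0,1,2,3,6,1,2,1,3,6], [1,6,1,2,1,7,3,2,1,0,1,2,3,6,1,2,1,7,1],
  [6,6,1,2,1,7,3,2,1,0,1,2,3,6,1,2,1,7,7], [1,7,1,2,1,7,3,2,1,0,1,2,3,6,1,2,1,6,1],
  [1,2,3,2,1,7,3,2,1,0,1,2,3,6,1,2,3,2,1], [6,2,3,2,1,7,3,2,1,0,1,2,3,6,1,2,3,2,7],
  [7,2,3,2,1,7,3,2,1,0,1,2,3,6,1,2,3,2,6], [1,6,3,2,1,7,3,2,1,0,1,2,3,6,1,2,3,7,1],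
  [6,6,3,2,1,7,3,2,1,0,1,2,3,6,1,2,3,7,7], [2,7,3,2,1,7,3,2,1,0,1,2,3,6,1,2,3,6,2],
  [6,1,6,2,1,7,3,2,1,0,1,2,3,6,1,2,7,1,7], [7,1,6,2,1,7,3,2,1,0,1,2,3,6,1,2,7,1,6],
  [1,6,6,2,1,7,3,2,1,0,1,2,3,6,1,2,7,7,1], [3,1,2,6,1,7,3,2,1,0,1,2,3,6,1,7,2,1,3],
  [6,1,2,6,1,7,3,2,1,0,1,2,3,6,1,7,2,1,7], [7,1,2,6,1,7,3,2,1,0,1,2,3,6,1,7,2,1,6],
  [6,3,2,6,1,7,3,2,1,0,1,2,3,6,1,7,2,3,7], [7,3,2,6,1,7,3,2,1,0,1,2,3,6,1,7,2,3,6],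
  [1,6,2,6,1,7,3,2,1,0,1,2,3,6,1,7,2,7,1], [1,7,2,6,1,7,3,2,1,0,1,2,3,6,1,7,2,6,1],
  [3,1,2,7,1,7,3,2,1,0,1,2,3,6,1,6,2,1,3], [7,1,2,7,1,7,3,2,1,0,1,2,3,6,1,6,2,1,6],
  [1,2,6,1,2,7,3,2,1,0,1,2,3,6,2,1,7,2,1], [3,2,6,1,2,7,3,2,1,0,1,2,3,6,2,1,7,2,3],
  [7,2,6,1,2,7,3,2,1,0,1,2,3,6,2,1,7,2,6], [1,2,7,1,2,7,3,2,1,0,1,2,3,6,2,1,6,2,1],
  [3,2,7,1,2,7,3,2,1,0,1,2,3,6,2,1,6,2,3], [1,6,2,3,2,1,7,2,1,0,1,2,6,1,2,3,2,7,1],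
  [1,7,2,3,2,1,7,2,1,0,1,2,6,1,2,3,2,6,1], [1,2,6,3,2,1,7,2,1,0,1,2,6,1,2,3,7,2,1],
  [1,6,3,2,3,1,2,6,1,0,1,7,2,1,3,2,3,7,1], [1,7,3,2,3,1,2,6,1,0,1,7,2,1,3,2,3,6,1],
  [6,1,6,2,3,1,2,6,1,0,1,7,2,1,3,2,7,1,7], [7,1,6,2,3,1,2,6,1,0,1,7,2,1,3,2,7,1,6],
  [6,1,7,2,3,1,2,6,1,0,1,7,2,1,3,2,6,1,7], [7,1,7,2,3,1,2,6,1,0,1,7,2,1,3,2,6,1,6],
  [6,1,2,7,3,1,2,6,1,0,1,7,2,1,3,6,2,1,7], [7,1,2,7,3,1,2,6,1,0,1,7,2,1,3,6,2,1,6],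
  [1,2,3,2,3,1,2,7,1,0,1,6,2,1,3,2,3,2,1], [3,2,1,6,3,1,2,7,1,0,1,6,2,1,3,7,1,2,3],
  [1,6,3,2,3,1,2,3,2,1,0,1,2,3,2,1,3,2,3,7,1], [1,7,3,2,3,1,2,3,2,1,0,1,2,3,2,1,3,2,3,6,1],
  [2,1,6,2,3,1,2,3,2,1,0,1,2,3,2,1,3,2,7,1,2], [6,1,6,2,3,1,2,3,2,1,0,1,2,3,2,1,3,2,7,1,7],
  [7,1,6,2,3,1,2,3,2,1,0,1,2,3,2,1,3,2,7,1,6], [6,1,7,2,3,1,2,3,2,1,0,1,2,3,2,1,3,2,6,1,7],
  [7,1,7,2,3,1,2,3,2,1,0,1,2,3,2,1,3,2,6,1,6], [1,2,1,6,3,1,2,3,2,1,0,1,2,3,2,1,3,7,1,2,1],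
  [3,1,2,6,3,1,2,3,2,1,0,1,2,3,2,1,3,7,2,1,3], [7,1,2,6,3,1,2,3,2,1,0,1,2,3,2,1,3,7,2,1,6],
  [6,3,2,6,3,1,2,3,2,1,0,1,2,3,2,1,3,7,2,3,7], [7,3,2,6,3,1,2,3,2,1,0,1,2,3,2,1,3,7,2,3,6],
  [1,6,2,6,3,1,2,3,2,1,0,1,2,3,2,1,3,7,2,7,1], [1,7,2,6,3,1,2,3,2,1,0,1,2,3,2,1,3,7,2,6,1],
  [1,2,1,7,3,1,2,3,2,1,0,1,2,3,2,1,3,6,1,2,1], [3,2,1,7,3,1,2,3,2,1,0,1,2,3,2,1,3,6,1,2,3],
  [6,2,1,7,3,1,2,3,2,1,0,1,2,3,2,1,3,6,1,2,7], [2,6,1,7,3,1,2,3,2,1,0,1,2,3,2,1,3,6,1,7,2],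
  [3,1,2,7,3,1,2,3,2,1,0,1,2,3,2,1,3,6,2,1,3], [7,1,2,7,3,1,2,3,2,1,0,1,2,3,2,1,3,6,2,1,6],
  [3,1,2,1,6,1,2,3,2,1,0,1,2,3,2,1,7,1,2,1,3], [2,3,2,1,6,1,2,3,2,1,0,1,2,3,2,1,7,1,2,3,2],
  [3,1,2,1,7,1,2,3,2,1,0,1,2,3,2,1,6,1,2,1,3], [2,3,2,1,7,1,2,3,2,1,0,1,2,3,2,1,6,1,2,3,2],
  [6,3,2,1,7,1,2,3,2,1,0,1,2,3,2,1,6,1,2,3,7], [1,6,2,1,7,1,2,3,2,1,0,1,2,3,2,1,6,1,2,7,1],
  [1,2,6,1,7,1,2,3,2,1,0,1,2,3,2,1,6,1,7,2,1], [3,2,6,1,7,1,2,3,2,1,0,1,2,3,2,1,6,1,7,2,3],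
  [1,2,7,1,7,1,2,3,2,1,0,1,2,3,2,1,6,1,6,2,1], [3,2,7,1,7,1,2,3,2,1,0,1,2,3,2,1,6,1,6,2,3],
  [1,2,3,2,1,6,2,3,2,1,0,1,2,3,2,7,1,2,3,2,1], [3,2,3,2,1,6,2,3,2,1,0,1,2,3,2,7,1,2,3,2,3],
  [6,2,3,2,1,6,2,3,2,1,0,1,2,3,2,7,1,2,3,2,7], [7,2,3,2,1,6,2,3,2,1,0,1,2,3,2,7,1,2,3,2,6],
  [1,6,3,2,1,6,2,3,2,1,0,1,2,3,2,7,1,2,3,7,1], [2,6,3,2,1,6,2,3,2,1,0,1,2,3,2,7,1,2,3,7,2],
  [6,6,3,2,1,6,2,3,2,1,0,1,2,3,2,7,1,2,3,7,7], [1,7,3,2,1,6,2,3,2,1,0,1,2,3,2,7,1,2,3,6,1],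
  [6,1,6,2,1,6,2,3,2,1,0,1,2,3,2,7,1,2,7,1,7], [7,1,6,2,1,6,2,3,2,1,0,1,2,3,2,7,1,2,7,1,6],
  [1,6,6,2,1,6,2,3,2,1,0,1,2,3,2,7,1,2,7,7,1], [7,1,7,2,1,6,2,3,2,1,0,1,2,3,2,7,1,2,6,1,6],
  [3,1,2,6,1,6,2,3,2,1,0,1,2,3,2,7,1,7,2,1,3], [7,1,2,6,1,6,2,3,2,1,0,1,2,3,2,7,1,7,2,1,6],
  [6,3,2,6,1,6,2,3,2,1,0,1,2,3,2,7,1,7,2,3,7], [1,6,2,6,1,6,2,3,2,1,0,1,2,3,2,7,1,7,2,7,1],
  [1,2,3,2,1,7,2,3,2,1,0,1,2,3,2,6,1,2,3,2,1], [3,2,3,2,1,7,2,3,2,1,0,1,2,3,2,6,1,2,3,2,3],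
  [6,2,3,2,1,7,2,3,2,1,0,1,2,3,2,6,1,2,3,2,7], [2,7,3,2,1,7,2,3,2,1,0,1,2,3,2,6,1,2,3,6,2],
  [1,6,6,2,1,7,2,3,2,1,0,1,2,3,2,6,1,2,7,7,1], [1,2,1,6,1,7,2,3,2,1,0,1,2,3,2,6,1,7,1,2,1],
  [3,2,1,6,1,7,2,3,2,1,0,1,2,3,2,6,1,7,1,2,3], [3,1,2,6,1,7,2,3,2,1,0,1,2,3,2,6,1,7,2,1,3],
  [7,1,2,6,1,7,2,3,2,1,0,1,2,3,2,6,1,7,2,1,6], [6,3,2,6,1,7,2,3,2,1,0,1,2,3,2,6,1,7,2,3,7],
  [7,3,2,6,1,7,2,3,2,1,0,1,2,3,2,6,1,7,2,3,6], [6,1,2,7,1,7,2,3,2,1,0,1,2,3,2,6,1,6,2,1,7],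
  [1,2,3,1,2,1,6,3,2,1,0,1,2,3,7,1,2,1,3,2,1], [3,2,3,1,2,1,6,3,2,1,0,1,2,3,7,1,2,1,3,2,3],
  [6,2,3,1,2,1,6,3,2,1,0,1,2,3,7,1,2,1,3,2,7], [1,7,3,1,2,1,6,3,2,1,0,1,2,3,7,1,2,1,3,6,1],
  [2,7,3,1,2,1,6,3,2,1,0,1,2,3,7,1,2,1,3,6,2], [6,1,7,1,2,1,6,3,2,1,0,1,2,3,7,1,2,1,6,1,7],
  [6,1,2,3,2,1,6,3,2,1,0,1,2,3,7,1,2,3,2,1,7], [7,1,2,3,2,1,6,3,2,1,0,1,2,3,7,1,2,3,2,1,6],
  [3,2,1,7,2,1,6,3,2,1,0,1,2,3,7,1,2,6,1,2,3], [6,2,1,7,2,1,6,3,2,1,0,1,2,3,7,1,2,6,1,2,7],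
  [2,7,1,7,2,1,6,3,2,1,0,1,2,3,7,1,2,6,1,6,2], [2,6,1,2,6,1,6,3,2,1,0,1,2,3,7,1,7,2,1,7,2],
  [1,7,1,2,6,1,6,3,2,1,0,1,2,3,7,1,7,2,1,6,1], [2,7,1,2,6,1,6,3,2,1,0,1,2,3,7,1,7,2,1,6,2],
  [6,1,6,2,6,1,6,3,2,1,0,1,2,3,7,1,7,2,7,1,7], [7,1,6,2,6,1,6,3,2,1,0,1,2,3,7,1,7,2,7,1,6],
  [1,6,1,2,7,1,6,3,2,1,0,1,2,3,7,1,6,2,1,7,1], [2,3,2,1,6,2,6,3,2,1,0,1,2,3,7,2,7,1,2,3,2],
  [7,3,2,1,6,2,6,3,2,1,0,1,2,3,7,2,7,1,2,3,6], [1,7,2,1,6,2,6,3,2,1,0,1,2,3,7,2,7,1,2,6,1],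
  [3,2,6,1,6,2,6,3,2,1,0,1,2,3,7,2,7,1,7,2,3], [3,2,7,1,6,2,6,3,2,1,0,1,2,3,7,2,7,1,6,2,3],
  [2,3,2,1,7,2,6,3,2,1,0,1,2,3,7,2,6,1,2,3,2], [7,3,2,1,7,2,6,3,2,1,0,1,2,3,7,2,6,1,2,3,6],
  [3,2,6,1,7,2,6,3,2,1,0,1,2,3,7,2,6,1,7,2,3], [1,6,3,2,1,6,6,3,2,1,0,1,2,3,7,7,1,2,3,7,1],
  [6,1,6,2,1,6,6,3,2,1,0,1,2,3,7,7,1,2,7,1,7], [7,1,6,2,1,6,6,3,2,1,0,1,2,3,7,7,1,2,7,1,6],
  [3,1,2,6,1,6,6,3,2,1,0,1,2,3,7,7,1,7,2,1,3], [7,1,2,6,1,6,6,3,2,1,0,1,2,3,7,7,1,7,2,1,6],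
  [1,2,3,1,2,1,7,3,2,1,0,1,2,3,6,1,2,1,3,2,1], [7,2,3,1,2,1,7,3,2,1,0,1,2,3,6,1,2,1,3,2,6],
  [1,6,3,1,2,1,7,3,2,1,0,1,2,3,6,1,2,1,3,7,1], [2,6,3,1,2,1,7,3,2,1,0,1,2,3,6,1,2,1,3,7,2],
  [6,6,3,1,2,1,7,3,2,1,0,1,2,3,6,1,2,1,3,7,7], [1,7,3,1,2,1,7,3,2,1,0,1,2,3,6,1,2,1,3,6,1],
  [1,6,6,1,2,1,7,3,2,1,0,1,2,3,6,1,2,1,7,7,1], [2,1,7,1,2,1,7,3,2,1,0,1,2,3,6,1,2,1,6,1,2],
  [6,1,7,1,2,1,7,3,2,1,0,1,2,3,6,1,2,1,6,1,7], [7,1,7,1,2,1,7,3,2,1,0,1,2,3,6,1,2,1,6,1,6],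
  [6,1,2,3,2,1,7,3,2,1,0,1,2,3,6,1,2,3,2,1,7], [1,6,2,3,2,1,7,3,2,1,0,1,2,3,6,1,2,3,2,7,1],
  [1,7,2,3,2,1,7,3,2,1,0,1,2,3,6,1,2,3,2,6,1], [6,1,6,3,2,1,7,3,2,1,0,1,2,3,6,1,2,3,7,1,7],
  [7,1,6,3,2,1,7,3,2,1,0,1,2,3,6,1,2,3,7,1,6], [1,6,6,3,2,1,7,3,2,1,0,1,2,3,6,1,2,3,7,7,1],
  [1,2,7,3,2,1,7,3,2,1,0,1,2,3,6,1,2,3,6,2,1], [6,6,1,6,2,1,7,3,2,1,0,1,2,3,6,1,2,7,1,7,7],
  [1,7,1,6,2,1,7,3,2,1,0,1,2,3,6,1,2,7,1,6,1], [6,1,6,6,2,1,7,3,2,1,0,1,2,3,6,1,2,7,7,1,7],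
  [7,1,6,6,2,1,7,3,2,1,0,1,2,3,6,1,2,7,7,1,6], [2,3,1,2,6,1,7,3,2,1,0,1,2,3,6,1,7,2,1,3,2],
  [6,3,1,2,6,1,7,3,2,1,0,1,2,3,6,1,7,2,1,3,7], [7,3,1,2,6,1,7,3,2,1,0,1,2,3,6,1,7,2,1,3,6],
  [6,6,1,2,6,1,7,3,2,1,0,1,2,3,6,1,7,2,1,7,7], [1,6,3,2,6,1,7,3,2,1,0,1,2,3,6,1,7,2,3,7,1],
  [1,7,3,2,6,1,7,3,2,1,0,1,2,3,6,1,7,2,3,6,1], [7,1,6,2,6,1,7,3,2,1,0,1,2,3,6,1,7,2,7,1,6],
  [6,1,7,2,6,1,7,3,2,1,0,1,2,3,6,1,7,2,6,1,7], [1,7,1,2,7,1,7,3,2,1,0,1,2,3,6,1,6,2,1,6,1],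
  [3,1,2,6,1,2,7,3,2,1,0,1,2,3,6,2,1,7,2,1,3], [7,1,2,6,1,2,7,3,2,1,0,1,2,3,6,2,1,7,2,1,6],
  [7,3,2,6,1,2,7,3,2,1,0,1,2,3,6,2,1,7,2,3,6], [3,1,2,7,1,2,7,3,2,1,0,1,2,3,6,2,1,6,2,1,3],
  [6,1,2,7,1,2,7,3,2,1,0,1,2,3,6,2,1,6,2,1,7], [6,1,6,2,3,2,1,7,2,1,0,1,2,6,1,2,3,2,7,1,7],
  [7,1,6,2,3,2,1,7,2,1,0,1,2,6,1,2,3,2,7,1,6], [6,1,7,2,3,2,1,7,2,1,0,1,2,6,1,2,3,2,6,1,7],
  [7,1,2,6,3,2,1,7,2,1,0,1,2,6,1,2,3,7,2,1,6], [6,1,6,3,2,3,1,2,6,1,0,1,7,2,1,3,2,3,7,1,7],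
  [7,1,6,3,2,3,1,2,6,1,0,1,7,2,1,3,2,3,7,1,6], [2,1,7,3,2,3,1,2,6,1,0,1,7,2,1,3,2,3,6,1,2],
  [7,1,7,3,2,3,1,2,6,1,0,1,7,2,1,3,2,3,6,1,6], [1,6,1,7,2,3,1,2,6,1,0,1,7,2,1,3,2,6,1,7,1],
  [6,6,1,7,2,3,1,2,6,1,0,1,7,2,1,3,2,6,1,7,7], [2,7,1,7,2,3,1,2,6,1,0,1,7,2,1,3,2,6,1,6,2],
  [1,6,1,2,7,3,1,2,6,1,0,1,7,2,1,3,6,2,1,7,1], [2,1,6,3,2,3,1,2,3,2,1,0,1,2,3,2,1,3,2,3,7,1,2],
  [6,1,6,3,2,3,1,2,3,2,1,0,1,2,3,2,1,3,2,3,7,1,7], [7,1,6,3,2,3,1,2,3,2,1,0,1,2,3,2,1,3,2,3,7,1,6],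
  [2,1,7,3,2,3,1,2,3,2,1,0,1,2,3,2,1,3,2,3,6,1,2], [6,1,7,3,2,3,1,2,3,2,1,0,1,2,3,2,1,3,2,3,6,1,7],
  [7,1,7,3,2,3,1,2,3,2,1,0,1,2,3,2,1,3,2,3,6,1,6], [3,2,1,6,2,3,1,2,3,2,1,0,1,2,3,2,1,3,2,7,1,2,3],
  [6,2,1,6,2,3,1,2,3,2,1,0,1,2,3,2,1,3,2,7,1,2,7], [6,6,1,6,2,3,1,2,3,2,1,0,1,2,3,2,1,3,2,7,1,7,7],
  [2,6,1,7,2,3,1,2,3,2,1,0,1,2,3,2,1,3,2,6,1,7,2], [2,7,1,7,2,3,1,2,3,2,1,0,1,2,3,2,1,3,2,6,1,6,2],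
  [2,3,1,2,6,3,1,2,3,2,1,0,1,2,3,2,1,3,7,2,1,3,2], [7,3,1,2,6,3,1,2,3,2,1,0,1,2,3,2,1,3,7,2,1,3,6],
  [1,6,3,2,6,3,1,2,3,2,1,0,1,2,3,2,1,3,7,2,3,7,1], [1,7,3,2,6,3,1,2,3,2,1,0,1,2,3,2,1,3,7,2,3,6,1],
  [6,1,6,2,6,3,1,2,3,2,1,0,1,2,3,2,1,3,7,2,7,1,7], [6,1,7,2,6,3,1,2,3,2,1,0,1,2,3,2,1,3,7,2,6,1,7],
  [3,1,2,1,7,3,1,2,3,2,1,0,1,2,3,2,1,3,6,1,2,1,3], [6,1,2,1,7,3,1,2,3,2,1,0,1,2,3,2,1,3,6,1,2,1,7],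
  [7,1,2,1,7,3,1,2,3,2,1,0,1,2,3,2,1,3,6,1,2,1,6], [2,3,2,1,7,3,1,2,3,2,1,0,1,2,3,2,1,3,6,1,2,3,2],
  [6,3,2,1,7,3,1,2,3,2,1,0,1,2,3,2,1,3,6,1,2,3,7], [3,2,6,1,7,3,1,2,3,2,1,0,1,2,3,2,1,3,6,1,7,2,3],
  [7,3,1,2,7,3,1,2,3,2,1,0,1,2,3,2,1,3,6,2,1,3,6], [2,3,1,2,1,6,1,2,3,2,1,0,1,2,3,2,1,7,1,2,1,3,2],
  [1,2,3,2,1,7,1,2,3,2,1,0,1,2,3,2,1,6,1,2,3,2,1], [3,2,3,2,1,7,1,2,3,2,1,0,1,2,3,2,1,6,1,2,3,2,3],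
  [6,2,3,2,1,7,1,2,3,2,1,0,1,2,3,2,1,6,1,2,3,2,7], [7,2,3,2,1,7,1,2,3,2,1,0,1,2,3,2,1,6,1,2,3,2,6],
  [1,6,3,2,1,7,1,2,3,2,1,0,1,2,3,2,1,6,1,2,3,7,1], [2,6,3,2,1,7,1,2,3,2,1,0,1,2,3,2,1,6,1,2,3,7,2],
  [3,1,2,6,1,7,1,2,3,2,1,0,1,2,3,2,1,6,1,7,2,1,3], [3,1,2,7,1,7,1,2,3,2,1,0,1,2,3,2,1,6,1,6,2,1,3],
  [7,1,2,7,1,7,1,2,3,2,1,0,1,2,3,2,1,6,1,6,2,1,6], [1,7,2,3,2,1,6,2,3,2,1,0,1,2,3,2,7,1,2,3,2,6,1],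
  [6,1,6,3,2,1,6,2,3,2,1,0,1,2,3,2,7,1,2,3,7,1,7], [7,1,6,3,2,1,6,2,3,2,1,0,1,2,3,2,7,1,2,3,7,1,6],
  [1,2,6,3,2,1,6,2,3,2,1,0,1,2,3,2,7,1,2,3,7,2,1], [1,6,6,3,2,1,6,2,3,2,1,0,1,2,3,2,7,1,2,3,7,7,1],
  [7,1,7,3,2,1,6,2,3,2,1,0,1,2,3,2,7,1,2,3,6,1,6], [6,6,1,6,2,1,6,2,3,2,1,0,1,2,3,2,7,1,2,7,1,7,7],
  [7,3,1,2,6,1,6,2,3,2,1,0,1,2,3,2,7,1,7,2,1,3,6], [1,7,1,2,6,1,6,2,3,2,1,0,1,2,3,2,7,1,7,2,1,6,1],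
  [1,6,3,2,6,1,6,2,3,2,1,0,1,2,3,2,7,1,7,2,3,7,1], [6,1,6,2,6,1,6,2,3,2,1,0,1,2,3,2,7,1,7,2,7,1,7],
  [7,1,6,2,6,1,6,2,3,2,1,0,1,2,3,2,7,1,7,2,7,1,6], [3,1,2,3,2,1,7,2,3,2,1,0,1,2,3,2,6,1,2,3,2,1,3],
  [6,1,2,3,2,1,7,2,3,2,1,0,1,2,3,2,6,1,2,3,2,1,7], [7,1,2,3,2,1,7,2,3,2,1,0,1,2,3,2,6,1,2,3,2,1,6],
  [3,1,2,1,6,1,7,2,3,2,1,0,1,2,3,2,6,1,7,1,2,1,3], [7,1,2,1,6,1,7,2,3,2,1,0,1,2,3,2,6,1,7,1,2,1,6],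
  [2,3,2,1,6,1,7,2,3,2,1,0,1,2,3,2,6,1,7,1,2,3,2], [3,1,2,3,1,2,1,6,3,2,1,0,1,2,3,7,1,2,1,3,2,1,3],
  [6,1,2,3,1,2,1,6,3,2,1,0,1,2,3,7,1,2,1,3,2,1,7], [1,2,7,3,1,2,1,6,3,2,1,0,1,2,3,7,1,2,1,3,6,2,1],
  [2,3,2,1,7,2,1,6,3,2,1,0,1,2,3,7,1,2,6,1,2,3,2], [6,3,2,1,7,2,1,6,3,2,1,0,1,2,3,7,1,2,6,1,2,3,7],
  [3,2,7,1,7,2,1,6,3,2,1,0,1,2,3,7,1,2,6,1,6,2,3], [1,2,7,1,2,6,1,6,3,2,1,0,1,2,3,7,1,7,2,1,6,2,1],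
  [3,2,7,1,2,6,1,6,3,2,1,0,1,2,3,7,1,7,2,1,6,2,3], [1,2,3,2,1,6,2,6,3,2,1,0,1,2,3,7,2,7,1,2,3,2,1],
  [3,2,3,2,1,6,2,6,3,2,1,0,1,2,3,7,2,7,1,2,3,2,3], [7,2,3,2,1,6,2,6,3,2,1,0,1,2,3,7,2,7,1,2,3,2,6],
  [1,7,3,2,1,6,2,6,3,2,1,0,1,2,3,7,2,7,1,2,3,6,1], [2,7,3,2,1,6,2,6,3,2,1,0,1,2,3,7,2,7,1,2,3,6,2],
  [1,2,3,2,1,7,2,6,3,2,1,0,1,2,3,7,2,6,1,2,3,2,1], [6,2,3,2,1,7,2,6,3,2,1,0,1,2,3,7,2,6,1,2,3,2,7],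
  [2,1,6,3,2,1,6,6,3,2,1,0,1,2,3,7,7,1,2,3,7,1,2], [6,1,6,3,2,1,6,6,3,2,1,0,1,2,3,7,7,1,2,3,7,1,7],
  [6,6,1,6,2,1,6,6,3,2,1,0,1,2,3,7,7,1,2,7,1,7,7], [7,1,2,3,1,2,1,7,3,2,1,0,1,2,3,6,1,2,1,3,2,1,6],
  [1,7,2,3,1,2,1,7,3,2,1,0,1,2,3,6,1,2,1,3,2,6,1], [1,2,6,3,1,2,1,7,3,2,1,0,1,2,3,6,1,2,1,3,7,2,1],
  [1,6,6,3,1,2,1,7,3,2,1,0,1,2,3,6,1,2,1,3,7,7,1], [6,1,7,3,1,2,1,7,3,2,1,0,1,2,3,6,1,2,1,3,6,1,7],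
  [7,1,7,3,1,2,1,7,3,2,1,0,1,2,3,6,1,2,1,3,6,1,6], [3,2,1,7,1,2,1,7,3,2,1,0,1,2,3,6,1,2,1,6,1,2,3],
  [6,2,1,7,1,2,1,7,3,2,1,0,1,2,3,6,1,2,1,6,1,2,7], [1,6,1,2,3,2,1,7,3,2,1,0,1,2,3,6,1,2,3,2,1,7,1],
  [2,6,1,2,3,2,1,7,3,2,1,0,1,2,3,6,1,2,3,2,1,7,2], [2,1,6,2,3,2,1,7,3,2,1,0,1,2,3,6,1,2,3,2,7,1,2],
  [6,1,7,2,3,2,1,7,3,2,1,0,1,2,3,6,1,2,3,2,6,1,7], [7,1,7,2,3,2,1,7,3,2,1,0,1,2,3,6,1,2,3,2,6,1,6],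
  [2,6,1,6,3,2,1,7,3,2,1,0,1,2,3,6,1,2,3,7,1,7,2], [1,7,1,6,3,2,1,7,3,2,1,0,1,2,3,6,1,2,3,7,1,6,1],
  [6,1,6,6,3,2,1,7,3,2,1,0,1,2,3,6,1,2,3,7,7,1,7], [7,1,6,6,3,2,1,7,3,2,1,0,1,2,3,6,1,2,3,7,7,1,6],
  [7,1,2,7,3,2,1,7,3,2,1,0,1,2,3,6,1,2,3,6,2,1,6], [6,1,7,1,6,2,1,7,3,2,1,0,1,2,3,6,1,2,7,1,6,1,7],
  [7,1,7,1,6,2,1,7,3,2,1,0,1,2,3,6,1,2,7,1,6,1,6], [2,6,3,1,2,6,1,7,3,2,1,0,1,2,3,6,1,7,2,1,3,7,2],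
  [2,7,3,1,2,6,1,7,3,2,1,0,1,2,3,6,1,7,2,1,3,6,2], [7,1,6,3,2,6,1,7,3,2,1,0,1,2,3,6,1,7,2,3,7,1,6],
  [6,1,7,3,2,6,1,7,3,2,1,0,1,2,3,6,1,7,2,3,6,1,7], [1,6,1,7,2,6,1,7,3,2,1,0,1,2,3,6,1,7,2,6,1,7,1],
  [7,3,1,2,6,1,2,7,3,2,1,0,1,2,3,6,2,1,7,2,1,3,6], [6,3,1,2,7,1,2,7,3,2,1,0,1,2,3,6,2,1,6,2,1,3,7],
  [2,6,1,7,2,3,2,1,7,2,1,0,1,2,6,1,2,3,2,6,1,7,2], [6,2,1,7,3,2,3,1,2,6,1,0,1,7,2,1,3,2,3,6,1,2,7],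
  [7,2,1,7,3,2,3,1,2,6,1,0,1,7,2,1,3,2,3,6,1,2,6], [7,2,1,6,3,2,3,1,2,3,2,1,0,1,2,3,2,1,3,2,3,7,1,2,6],
  [6,6,1,6,3,2,3,1,2,3,2,1,0,1,2,3,2,1,3,2,3,7,1,7,7], [2,7,1,6,3,2,3,1,2,3,2,1,0,1,2,3,2,1,3,2,3,7,1,6,2],
  [6,2,1,7,3,2,3,1,2,3,2,1,0,1,2,3,2,1,3,2,3,6,1,2,7], [2,6,1,7,3,2,3,1,2,3,2,1,0,1,2,3,2,1,3,2,3,6,1,7,2],
  [2,7,1,7,3,2,3,1,2,3,2,1,0,1,2,3,2,1,3,2,3,6,1,6,2], [2,3,2,1,6,2,3,1,2,3,2,1,0,1,2,3,2,1,3,2,7,1,2,3,2],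
  [6,3,2,1,6,2,3,1,2,3,2,1,0,1,2,3,2,1,3,2,7,1,2,3,7], [2,1,6,3,2,6,3,1,2,3,2,1,0,1,2,3,2,1,3,7,2,3,7,1,2],
  [7,3,1,2,1,7,3,1,2,3,2,1,0,1,2,3,2,1,3,6,1,2,1,3,6], [1,2,3,2,1,7,3,1,2,3,2,1,0,1,2,3,2,1,3,6,1,2,3,2,1],
  [6,2,3,2,1,7,3,1,2,3,2,1,0,1,2,3,2,1,3,6,1,2,3,2,7], [1,6,2,3,2,1,7,1,2,3,2,1,0,1,2,3,2,1,6,1,2,3,2,7,1],
  [1,2,6,3,2,1,7,1,2,3,2,1,0,1,2,3,2,1,6,1,2,3,7,2,1], [2,3,1,2,6,1,7,1,2,3,2,1,0,1,2,3,2,1,6,1,7,2,1,3,2],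
  [7,3,1,2,7,1,7,1,2,3,2,1,0,1,2,3,2,1,6,1,6,2,1,3,6], [2,1,6,6,3,2,1,6,2,3,2,1,0,1,2,3,2,7,1,2,3,7,7,1,2],
  [1,7,3,1,2,6,1,6,2,3,2,1,0,1,2,3,2,7,1,7,2,1,3,6,1], [2,3,1,2,3,2,1,7,2,3,2,1,0,1,2,3,2,6,1,2,3,2,1,3,2],
  [6,3,1,2,3,2,1,7,2,3,2,1,0,1,2,3,2,6,1,2,3,2,1,3,7], [7,3,1,2,3,2,1,7,2,3,2,1,0,1,2,3,2,6,1,2,3,2,1,3,6],
  [2,3,1,2,1,6,1,7,2,3,2,1,0,1,2,3,2,6,1,7,1,2,1,3,2], [7,3,1,2,1,6,1,7,2,3,2,1,0,1,2,3,2,6,1,7,1,2,1,3,6],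
  [1,2,3,2,1,6,1,7,2,3,2,1,0,1,2,3,2,6,1,7,1,2,3,2,1], [2,3,1,2,3,1,2,1,6,3,2,1,0,1,2,3,7,1,2,1,3,2,1,3,2],
  [6,3,1,2,3,1,2,1,6,3,2,1,0,1,2,3,7,1,2,1,3,2,1,3,7], [7,2,3,2,1,7,2,1,6,3,2,1,0,1,2,3,7,1,2,6,1,2,3,2,6],
  [2,6,3,2,1,7,2,1,6,3,2,1,0,1,2,3,7,1,2,6,1,2,3,7,2], [3,1,2,7,1,2,6,1,6,3,2,1,0,1,2,3,7,1,7,2,1,6,2,1,3],
  [3,1,2,3,2,1,6,2,6,3,2,1,0,1,2,3,7,2,7,1,2,3,2,1,3], [6,1,2,3,2,1,6,2,6,3,2,1,0,1,2,3,7,2,7,1,2,3,2,1,7],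
  [1,7,2,3,2,1,6,2,6,3,2,1,0,1,2,3,7,2,7,1,2,3,2,6,1], [1,2,7,3,2,1,6,2,6,3,2,1,0,1,2,3,7,2,7,1,2,3,6,2,1],
  [7,1,2,3,2,1,7,2,6,3,2,1,0,1,2,3,7,2,6,1,2,3,2,1,6], [2,1,6,6,3,1,2,1,7,3,2,1,0,1,2,3,6,1,2,1,3,7,7,1,2],
  [2,7,1,7,3,1,2,1,7,3,2,1,0,1,2,3,6,1,2,1,3,6,1,6,2], [6,2,1,6,2,3,2,1,7,3,2,1,0,1,2,3,6,1,2,3,2,7,1,2,7],
  [2,7,1,2,7,3,2,1,7,3,2,1,0,1,2,3,6,1,2,3,6,2,1,6,2],
  [1,6,2,1,7,3,2,3,1,2,3,2,1,0,1,2,3,2,1,3,2,3,6,1,2,7,1],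
  [2,1,6,2,3,2,1,7,1,2,3,2,1,0,1,2,3,2,1,6,1,2,3,2,7,1,2],
  [6,1,6,2,3,2,1,7,1,2,3,2,1,0,1,2,3,2,1,6,1,2,3,2,7,1,7]]

/-- Conjugation by b, c, d, g. -/
def xMul : List (List ℕ) := [
  [1,0,0,0], [0,2,1,3], [2,1,5,6], [8,9,3,10], [11,12,4,1], [5,13,2,14], [16,11,14,17], [18,19,15,2],
  [3,20,8,11], [21,3,22,20], [10,17,10,4], [4,6,11,24], [25,4,26,23], [27,5,28,29], [31,32,6,33],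
  [34,35,7,5], [6,25,31,36], [38,10,33,7], [7,39,34,40], [24,7,19,8], [42,8,43,12], [9,42,44,39],
  [44,29,9,43], [39,24,46,9], [19,23,24,19], [12,16,47,48], [47,30,12,46], [13,27,50,51], [50,33,13,30],
  [53,22,30,28], [54,26,29,13], [14,55,16,56], [58,14,35,59], [61,28,17,15], [15,62,18,63], [65,15,32,60],
  [41,36,56,66], [67,37,57,16], [17,38,61,68], [23,18,69,70], [71,72,63,73], [36,74,64,18], [20,21,75,76],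
  [75,60,20,26], [22,78,21,69], [80,73,79,21], [69,59,23,22], [26,81,25,82], [84,49,82,85], [49,48,83,25],
  [28,86,27,87], [89,90,87,91], [92,93,88,27], [29,94,54,95], [30,97,53,98], [100,31,101,102],
  [64,104,36,105], [106,107,37,31], [32,100,65,108], [110,46,60,35], [111,43,59,32], [33,112,38,113],
  [114,34,115,116], [118,119,40,120], [56,121,41,34], [35,114,58,122], [73,85,105,37], [37,76,106,74],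
  [72,124,113,38], [46,125,39,126], [85,80,126,45], [40,77,118,72], [68,40,127,67], [66,45,120,41],
  [74,41,128,71], [43,117,42,129], [76,67,129,80], [124,71,130,42], [94,44,131,132], [134,135,45,44],
  [45,70,134,77], [97,47,136,104], [137,103,48,138], [83,102,49,47], [48,84,137,124], [70,66,138,49],
  [112,50,139,140], [142,143,51,144], [145,146,52,50], [51,147,142,148], [150,51,151,152], [144,91,144,52],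
  [52,154,145,155], [157,52,158,153], [78,53,159,160], [156,162,98,163], [164,165,99,53], [81,54,166,167],
  [169,170,95,171], [148,172,96,54], [55,58,173,174], [173,176,55,177], [177,83,177,179], [180,82,178,55],
  [181,56,182,183], [120,179,66,57], [57,132,67,128], [184,57,185,81], [153,186,122,187], [188,189,123,58],
  [59,190,111,191], [60,193,110,194], [86,61,195,196], [127,197,68,61], [62,65,198,199], [198,201,62,202],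
  [204,134,202,205], [193,75,203,62], [63,133,71,127], [206,63,207,208], [105,205,73,64], [210,64,211,209],
  [212,213,108,214], [215,216,109,65], [77,68,217,84], [190,69,218,219], [138,221,70,79], [113,219,72,106],
  [128,220,74,118], [129,208,76,134], [217,209,77,75], [159,202,78,222], [224,106,222,221],
  [225,118,223,78], [79,116,80,130], [226,79,201,220], [166,227,81,182], [82,228,84,217], [126,183,85,83],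
  [195,229,86,230], [232,151,230,233], [234,158,231,86], [87,235,89,164], [237,87,238,239], [91,233,91,88],
  [88,241,92,242], [243,88,244,240], [245,89,246,216], [99,199,164,247], [242,200,236,89],
  [90,245,192,111], [192,140,90,249], [250,153,249,93], [108,152,212,90], [251,92,252,253],
  [236,254,242,255], [95,256,169,92], [93,251,257,258], [257,141,93,212], [131,259,94,260],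
  [262,215,260,263], [264,258,261,94], [265,95,266,267], [171,263,171,96], [96,174,148,268],
  [269,96,270,251], [136,271,97,184], [185,188,184,273], [186,250,272,97], [98,274,156,145],
  [276,98,277,278], [163,273,163,99], [280,99,281,279], [101,282,100,280], [281,164,280,284],
  [285,236,283,100], [286,101,183,185], [102,177,102,227], [287,178,103,101], [288,105,227,103],
  [103,289,287,290], [104,210,189,292], [189,185,104,176], [294,138,176,107], [107,224,167,295],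
  [167,182,107,136], [168,108,296,235], [214,284,214,109], [109,167,215,257], [182,109,181,297],
  [125,110,299,154], [298,301,194,302], [151,303,150,110], [117,111,304,241], [306,307,191,248],
  [139,195,112,308], [309,217,308,112], [310,113,311,228], [115,312,114,313], [315,148,313,316],
  [317,149,314,114], [318,115,135,319], [321,131,116,322], [304,323,117,115], [116,226,321,324],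
  [326,120,322,117], [119,225,327,328], [327,319,119,330], [332,129,330,121], [333,130,331,119],
  [121,181,334,282], [334,320,121,331], [122,239,153,151], [336,122,337,147], [187,316,187,123],
  [123,160,188,157], [339,123,340,338], [130,196,124,137], [299,322,125,320], [341,127,320,135],
  [342,128,319,125], [343,126,323,133], [344,331,132,323], [345,330,133,131], [132,184,344,346],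
  [133,206,345,348], [135,204,318,350], [352,136,179,178], [289,137,353,197], [229,139,233,231],
  [354,244,140,229], [355,238,141,139], [140,356,354,357], [233,144,229,141], [141,290,355,359],
  [361,142,293,189], [155,175,149,142], [143,361,362,289], [362,231,143,364], [366,212,364,146],
  [367,249,365,143], [368,145,369,370], [149,371,155,275], [146,368,372,366], [372,230,146,365],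
  [147,150,374,371], [374,375,147,340], [255,338,268,149], [302,370,302,150], [258,240,152,158],
  [152,168,258,298], [154,157,376,162], [376,377,154,378], [379,302,378,300], [380,155,381,301],
  [247,300,275,156], [382,156,383,303], [158,279,157,250], [249,161,250,306], [384,159,385,386],
  [388,389,160,390], [391,344,161,159], [160,339,388,392], [394,163,390,161], [161,367,391,356],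
  [162,382,396,342], [396,386,162,398], [399,306,398,165], [275,297,247,236], [165,281,386,271],
  [386,387,165,376], [400,166,401,402], [296,403,168,166], [404,171,295,168], [405,169,406,245],
  [268,305,255,169], [170,405,407,288], [407,402,170,409], [409,298,409,172], [290,257,410,170],
  [172,315,174,411], [174,269,172,410], [412,173,413,414], [415,416,175,173], [408,187,411,175],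
  [175,380,415,417], [176,412,294,418], [178,363,180,291], [179,326,352,415], [228,180,420,421],
  [279,234,291,287], [410,422,290,180], [297,423,297,296], [424,425,235,181], [183,343,286,426],
  [428,385,273,272], [272,414,186,293], [292,268,292,186], [191,278,306,188], [218,429,190,252],
  [431,255,430,190], [347,191,432,256], [248,253,248,192], [356,192,433,254], [203,434,193,369],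
  [423,275,435,193], [194,267,298,215], [329,194,436,274], [437,311,196,195], [196,333,437,438],
  [197,341,440,367], [440,308,197,353], [442,198,335,334], [444,445,199,446], [447,444,200,198],
  [199,280,444,423], [448,214,446,200], [200,449,447,450], [201,442,226,452], [453,207,220,218],
  [454,211,219,201], [202,384,204,455], [457,218,205,203], [458,203,221,223], [451,392,455,459],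
  [460,393,456,204], [205,288,457,461], [207,463,206,464], [338,431,464,466], [307,399,465,206],
  [467,223,208,211], [468,222,209,207], [208,332,467,449], [209,309,468,470], [211,337,210,413],
  [471,411,312,210], [213,366,472,333], [472,334,213,246], [328,247,474,213], [216,262,475,476],
  [475,443,216,474], [219,310,454,477], [220,342,453,479], [221,294,458,380], [222,261,224,481],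
  [223,483,225,463], [395,410,481,403], [301,409,482,224], [485,460,463,486], [392,487,484,225],
  [488,471,452,379], [385,476,384,226], [227,400,288,285], [420,353,228,311], [230,489,232,490],
  [231,492,234,493], [303,232,495,496], [439,477,490,497], [359,478,491,232], [358,498,493,422],
  [438,499,494,234], [235,237,424,498], [238,500,237,420], [363,287,501,237], [502,364,239,244],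
  [503,365,240,238], [239,336,502,504], [240,264,503,505], [241,243,506,507], [506,509,241,510],
  [459,248,510,305], [449,242,511,307], [244,490,243,502], [441,470,512,243], [246,513,245,511],
  [435,246,423,445], [252,482,251,266], [514,252,515,516], [518,519,253,430], [253,459,518,351],
  [254,285,520,394], [520,516,254,432], [256,265,521,485], [521,517,256,433], [259,321,351,318],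
  [351,295,259,269], [270,266,269,401], [523,270,402,259], [260,456,262,524], [526,260,403,482],
  [527,401,263,261], [261,468,264,495], [349,324,524,529], [522,325,525,262], [263,404,527,480],
  [346,497,528,264], [266,523,265,453], [531,397,530,265], [532,481,267,270], [267,329,532,533],
  [271,352,535,536], [535,390,271,387], [479,277,387,385], [486,272,389,347], [273,394,428,427],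
  [274,276,538,412], [538,540,274,374], [277,480,276,352], [284,448,417,276], [278,347,278,281],
  [291,346,279,277], [417,335,284,283], [282,286,541,542], [541,446,282,443], [466,296,443,335],
  [283,542,285,408], [543,283,445,425], [411,488,408,407], [499,462,426,428], [427,461,427,286],
  [353,544,289,545], [504,424,545,363], [497,291,546,360], [305,292,375,416], [293,421,361,499],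
  [547,293,548,315], [498,537,418,404], [419,536,419,294], [295,539,404,419], [549,299,550,514],
  [552,553,300,299], [300,328,552,534], [482,514,301,383], [495,551,303,381], [554,304,519,555],
  [375,515,305,304], [465,555,307,406], [308,556,309,557], [360,507,557,558], [357,508,489,309],
  [311,512,310,503], [373,496,556,310], [312,318,471,475], [560,340,414,312], [313,314,315,375],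
  [561,313,416,548], [562,413,316,314], [314,561,317,563], [316,408,562,462], [371,317,565,566],
  [487,451,563,543], [324,450,564,317], [567,568,350,518], [319,569,342,523], [320,472,341,570],
  [564,572,324,568], [573,388,325,321], [322,549,326,574], [323,554,343,520], [370,379,568,325],
  [325,348,573,577], [578,419,574,448], [507,418,575,326], [569,327,348,526], [474,579,328,560],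
  [436,580,329,327], [414,486,560,329], [330,563,332,565], [331,391,333,582], [542,543,581,332],
  [583,373,582,473], [335,350,442,339], [337,454,336,468], [566,558,584,336], [464,548,338,337],
  [340,524,339,585], [539,351,585,583], [533,357,570,531], [537,358,571,341], [402,586,523,397],
  [586,407,576,343], [528,398,346,389], [432,376,347,344], [563,345,487,587], [524,560,349,345],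
  [348,522,569,586], [403,466,526,349], [450,349,483,578], [350,417,567,537], [490,354,439,437],
  [489,372,357,590], [493,591,358,354], [500,355,492,592], [491,593,359,546], [557,594,360,355],
  [433,595,356,596], [529,441,596,395], [422,395,590,358], [426,359,499,424], [418,360,498,361],
  [492,362,500,593], [501,592,363,362], [364,597,366,591], [365,589,367,597], [421,547,591,373],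
  [505,531,597,441], [369,571,368,595], [462,438,595,547], [577,439,598,368], [599,369,553,600],
  [568,550,370,435], [565,600,371,436], [556,440,373,372], [515,374,514,434], [377,432,513,519],
  [513,435,377,540], [601,381,540,553], [517,383,600,377], [378,585,379,384], [602,378,434,551],
  [381,603,380,527], [383,521,382,569], [393,485,604,382], [387,396,479,530], [484,475,392,572],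
  [604,559,393,388], [389,573,486,484], [390,605,394,576], [481,598,395,391], [496,583,572,393],
  [606,604,397,396], [397,505,606,478], [398,588,399,579], [477,577,579,431], [536,578,580,399],
  [401,607,400,608], [534,427,608,488], [478,426,609,400], [406,610,405,541], [476,428,611,405],
  [612,406,516,509], [413,613,412,614], [469,415,614,539], [416,469,561,451], [544,420,544,492],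
  [591,616,421,501], [590,615,422,494], [425,504,617,508], [617,474,425,444], [429,457,618,619],
  [618,510,429,513], [620,433,555,429], [430,587,431,580], [621,430,509,517], [434,458,602,599],
  [622,436,551,550], [512,437,441,440], [494,590,438,589], [558,473,589,439], [582,525,583,442],
  [443,484,466,465], [445,447,543,564], [446,623,448,575], [483,467,450,561], [455,624,451,447],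
  [511,565,449,624], [473,566,624,469], [452,618,488,609], [510,452,459,456], [463,453,485,625],
  [579,617,477,606], [609,506,478,454], [596,455,529,525], [456,526,460,588], [587,621,461,562],
  [595,620,462,457], [625,626,480,458], [508,533,588,487], [461,534,587,460], [570,464,533,552],
  [608,465,534,532], [614,581,469,467], [559,606,470,584], [470,529,559,471], [624,596,473,472],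
  [611,518,476,559], [480,479,625,522], [574,552,578,573], [598,532,577,483], [589,503,558,489],
  [546,557,497,491], [545,491,504,512], [627,501,592,615], [616,493,593,616], [615,494,594,500],
  [575,495,507,617], [572,584,496,528], [597,502,505,556], [588,528,508,506], [509,609,621,605],
  [600,511,517,515], [516,628,612,629], [519,611,554,621], [628,520,610,618], [525,530,522,521],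
  [607,527,613,622], [530,582,531,571], [605,535,623,603], [580,622,536,567], [571,599,537,535],
  [629,538,603,549], [585,602,539,538], [540,629,601,628], [623,541,605,620], [581,619,542,611],
  [594,546,615,544], [593,545,616,594], [548,570,547,598], [550,567,549,626], [619,614,626,623],
  [551,575,622,602], [553,574,599,613], [555,608,620,554], [613,562,607,610], [584,564,566,581],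
  [576,625,586,604], [626,576,619,607], [592,627,627,627], [603,601,629,612], [610,612,628,601]]

/-- The index of h^4 f for the members h of the Sylow list. -/
def qRoot : List ℕ := [
  0, 377, 0, 0, 0, 0, 0, 0, 0, 0, 0, 0, 0, 377, 0, 0, 0, 377, 0, 0, 0, 607, 0, 377, 0, 0, 0, 0, 0, 0, 0, 0,
  607, 0, 0, 0, 0, 0, 0, 0, 0, 0, 0, 0, 0, 0, 0, 0, 0, 0, 0, 0, 0, 0, 0, 0, 0, 0, 0, 0, 0, 0, 0, 0, 0, 0,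
  0, 0, 0, 0, 0, 0, 0, 0, 0, 0, 0, 0, 0, 0, 0, 0, 0, 377, 0, 0, 607, 377, 0, 0, 0, 0, 0, 0, 0, 0, 607, 0,
  0, 377, 0, 0, 0, 0, 0, 0, 0, 0, 607, 0, 0, 607, 0, 0, 0, 607, 0, 0, 0, 0, 607, 607, 0, 0, 0, 377, 0, 0,
  0, 0, 0, 0, 0, 607, 0, 0, 0, 607, 0, 0, 0, 607, 0, 0, 0, 0, 0, 607, 0, 0, 0, 377, 0, 0, 0, 0, 0, 0, 377,
  0, 0, 607, 0, 607, 0, 0, 607, 0, 0, 377, 0, 0, 0, 0, 0, 0, 0, 0, 0, 0, 0, 0, 0, 0, 0, 0, 0, 0, 0, 0, 0,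
  0, 0, 0, 0, 0, 0, 0, 0, 0, 0, 0, 0, 0, 0, 0, 0, 0, 0, 0, 0, 0, 0, 0, 0, 0, 0, 0, 0, 0, 0, 0, 0, 0, 0, 0,
  0, 0, 0, 0, 0, 0, 0, 0, 0, 0, 0, 0, 0, 0, 0, 0, 0, 0, 0, 0, 0, 0, 0, 0, 0, 0, 0, 0, 0, 0, 0, 0, 0, 0, 0,
  0, 0, 0, 0, 0, 0, 0, 0, 0, 0, 0, 0, 0, 0, 0, 0, 0, 0, 0, 0, 0, 0, 0, 0, 0, 0, 0, 0, 0, 0, 0, 0, 0, 0, 0,
  0, 0, 0, 0, 377, 0, 0, 0, 0, 0, 0, 0, 0, 377, 0, 0, 607, 0, 0, 0, 607, 0, 0, 0, 607, 0, 0, 0, 0, 0, 607,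
  0, 0, 0, 377, 0, 0, 0, 0, 0, 0, 377, 0, 0, 377, 0, 0, 0, 0, 607, 0, 0, 607, 0, 0, 607, 0, 0, 0, 0, 607,
  0, 0, 0, 607, 0, 607, 0, 0, 377, 0, 377, 0, 0, 0, 0, 377, 0, 0, 377, 0, 607, 0, 0, 377, 0, 0, 0, 0, 0,
  377, 0, 0, 0, 377, 0, 0, 0, 0, 0, 0, 0, 607, 0, 607, 0, 377, 377, 0, 0, 0, 0, 0, 0, 377, 0, 377, 0, 0,
  377, 607, 0, 0, 0, 0, 377, 0, 377, 0, 0, 0, 0, 0, 0, 0, 0, 0, 0, 0, 0, 0, 0, 0, 0, 0, 0, 0, 0, 0, 0, 0,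
  0, 0, 0, 0, 0, 0, 0, 0, 0, 0, 0, 0, 0, 0, 0, 0, 0, 0, 0, 0, 0, 0, 0, 0, 0, 0, 0, 0, 0, 0, 0, 0, 0, 0, 0,
  0, 0, 0, 0, 0, 0, 0, 0, 0, 0, 0, 0, 0, 0, 0, 0, 607, 0, 0, 0, 377, 607, 0, 0, 0, 0, 377, 0, 0, 0]

/-- For a conjugate commuting with a: its representative and a conjugator fixing a and f. -/
def cConj : List (ℕ × List ℕ) := [
  (0, []), (0, []), (0, []), (0, []), (0, []), (0, []), (0, []), (0, []), (0, []), (0, []), (0, []),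
  (0, []), (0, []), (0, []), (0, []), (0, []), (0, []), (0, []), (0, []), (0, []), (0, []), (0, []),
  (0, []), (0, []), (0, []), (0, []), (0, []), (0, []), (0, []), (0, []), (0, []), (0, []), (0, []),
  (0, []), (0, []), (0, []), (0, []), (0, []), (1, []), (0, []), (0, []), (0, []), (0, []), (0, []),
  (0, []), (0, []), (0, []), (0, []), (0, []), (0, []), (0, []), (0, []), (0, []), (0, []), (0, []),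
  (0, []), (0, []), (0, []), (0, []), (0, []), (0, []), (1, [3]), (0, []), (0, []), (0, []), (0, []),
  (0, []), (0, []), (1, [6]), (0, []), (0, []), (0, []), (0, []), (0, []), (0, []), (0, []), (0, []),
  (0, []), (0, []), (0, []), (0, []), (0, []), (0, []), (0, []), (1, [6,2,6]), (0, []), (0, []), (0, []),
  (0, []), (0, []), (0, []), (0, []), (0, []), (0, []), (0, []), (0, []), (0, []), (0, []), (0, []),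
  (0, []), (0, []), (0, []), (0, []), (0, []), (0, []), (0, []), (0, []), (0, []), (0, []), (0, []),
  (0, []), (0, []), (1, [2,3]), (1, [6,3]), (0, []), (0, []), (0, []), (0, []), (0, []), (0, []), (0, []),
  (0, []), (0, []), (0, []), (1, [2,6]), (0, []), (0, []), (0, []), (0, []), (0, []), (0, []), (0, []),
  (0, []), (0, []), (0, []), (0, []), (0, []), (1, [6,3,2,6]), (0, []), (0, []), (0, []), (0, []), (0, []),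
  (0, []), (0, []), (0, []), (0, []), (0, []), (0, []), (0, []), (0, []), (0, []), (0, []), (0, []),
  (0, []), (0, []), (0, []), (0, []), (0, []), (0, []), (0, []), (0, []), (0, []), (0, []), (0, []),
  (0, []), (0, []), (0, []), (0, []), (0, []), (0, []), (0, []), (0, []), (0, []), (0, []), (0, []),
  (0, []), (0, []), (0, []), (0, []), (0, []), (0, []), (0, []), (0, []), (0, []), (0, []), (0, []),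
  (0, []), (0, []), (0, []), (0, []), (0, []), (0, []), (0, []), (0, []), (1, [3,2,3]), (1, [6,2,3]),
  (1, [2,6,3]), (0, []), (0, []), (0, []), (0, []), (0, []), (0, []), (0, []), (0, []), (0, []), (0, []),
  (0, []), (0, []), (0, []), (0, []), (0, []), (0, []), (0, []), (0, []), (0, []), (1, [3,2,6]), (0, []),
  (0, []), (0, []), (0, []), (0, []), (0, []), (0, []), (0, []), (0, []), (0, []), (1, [6,2,6,3]), (0, []),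
  (0, []), (0, []), (0, []), (0, []), (0, []), (0, []), (0, []), (0, []), (0, []), (0, []), (0, []),
  (0, []), (0, []), (0, []), (0, []), (0, []), (0, []), (0, []), (0, []), (0, []), (0, []), (0, []),
  (0, []), (0, []), (0, []), (0, []), (0, []), (0, []), (0, []), (0, []), (0, []), (0, []), (0, []),
  (0, []), (0, []), (0, []), (0, []), (0, []), (0, []), (0, []), (0, []), (0, []), (0, []), (0, []),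
  (0, []), (0, []), (0, []), (0, []), (0, []), (0, []), (0, []), (0, []), (0, []), (0, []), (0, []),
  (0, []), (0, []), (0, []), (0, []), (0, []), (0, []), (0, []), (0, []), (0, []), (0, []), (0, []),
  (0, []), (0, []), (0, []), (0, []), (0, []), (0, []), (0, []), (0, []), (0, []), (0, []), (0, []),
  (0, []), (1, [6,3,2,3]), (0, []), (0, []), (1, [3,2,6,3]), (0, []), (0, []), (0, []), (0, []), (0, []),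
  (0, []), (0, []), (0, []), (0, []), (0, []), (0, []), (0, []), (0, []), (0, []), (0, []), (0, []),
  (0, []), (0, []), (0, []), (0, []), (0, []), (0, []), (0, []), (0, []), (0, []), (0, []), (0, []),
  (0, []), (0, []), (0, []), (0, []), (0, []), (0, []), (0, []), (0, []), (0, []), (0, []), (0, []),
  (0, []), (0, []), (0, []), (1, [6,3,2,6,3]), (0, []), (0, []), (0, []), (0, []), (0, []), (0, []),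
  (0, []), (0, []), (0, []), (0, []), (0, []), (0, []), (0, []), (0, []), (0, []), (0, []), (0, []),
  (0, []), (0, []), (0, []), (0, []), (0, []), (0, []), (0, []), (0, []), (0, []), (0, []), (0, []),
  (0, []), (0, []), (0, []), (0, []), (0, []), (0, []), (0, []), (0, []), (0, []), (0, []), (0, []),
  (0, []), (0, []), (0, []), (0, []), (0, []), (0, []), (0, []), (0, []), (0, []), (0, []), (0, []),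
  (0, []), (0, []), (0, []), (0, []), (0, []), (0, []), (0, []), (0, []), (0, []), (0, []), (0, []),
  (0, []), (0, []), (0, []), (0, []), (0, []), (0, []), (0, []), (0, []), (0, []), (0, []), (0, []),
  (0, []), (0, []), (0, []), (0, []), (0, []), (0, []), (0, []), (0, []), (0, []), (0, []), (0, []),
  (0, []), (0, []), (0, []), (0, []), (0, []), (0, []), (0, []), (0, []), (0, []), (0, []), (0, []),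
  (0, []), (0, []), (0, []), (0, []), (0, []), (0, []), (0, []), (0, []), (0, []), (0, []), (0, []),
  (0, []), (0, []), (0, []), (0, []), (0, []), (0, []), (0, []), (0, []), (0, []), (0, []), (0, []),
  (0, []), (0, []), (0, []), (0, []), (0, []), (0, []), (0, []), (0, []), (0, []), (0, []), (0, []),
  (0, []), (0, []), (0, []), (0, []), (0, []), (0, []), (0, []), (0, []), (0, []), (0, []), (0, []),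
  (0, []), (0, []), (0, []), (0, []), (0, []), (0, []), (0, []), (0, []), (0, []), (0, []), (0, []),
  (0, []), (0, []), (0, []), (0, []), (0, []), (0, []), (0, []), (0, []), (0, []), (0, []), (0, []),
  (0, []), (0, []), (0, []), (0, []), (0, []), (0, []), (0, []), (0, []), (0, []), (0, []), (0, []),
  (0, []), (0, []), (0, []), (0, []), (0, []), (0, []), (0, []), (0, []), (0, []), (0, []), (0, []),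
  (0, []), (0, []), (0, []), (0, []), (0, []), (0, []), (0, []), (0, []), (0, []), (0, []), (0, []),
  (0, []), (0, []), (0, []), (0, []), (0, []), (0, []), (0, []), (0, []), (0, []), (0, []), (0, []),
  (0, []), (0, []), (0, []), (0, []), (0, []), (0, []), (0, []), (0, []), (0, []), (0, []), (0, []),
  (0, []), (0, []), (0, []), (0, []), (0, []), (0, []), (0, []), (0, []), (0, []), (0, []), (0, []),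
  (0, []), (0, []), (0, []), (0, []), (0, []), (0, []), (0, []), (0, []), (0, []), (0, []), (0, []),
  (0, []), (0, []), (0, []), (0, []), (0, []), (0, []), (0, []), (0, []), (0, []), (0, []), (2, []),
  (0, []), (0, []), (0, []), (0, []), (0, []), (0, []), (0, []), (0, []), (0, []), (0, []), (2, [3]),
  (0, []), (0, []), (0, []), (0, []), (0, []), (0, []), (0, []), (0, []), (0, []), (0, []), (0, []),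
  (0, []), (0, []), (0, []), (3, []), (2, [2]), (2, [6])]

/-- The representatives. -/
def cReps : List ℕ := [0, 38, 601, 627]

/-- The admissible second involutions for each representative. -/
def dLists : List (List ℕ) := [
  [], [38,61,68,84,112,113,124,137,195,196,197,217,228,308,311,353], [], []]

/-- For a representative and a second involution: admissible first and third involutions. -/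
def beLists : List (ℕ × ℕ × List ℕ × List ℕ) := [
  (1, 38, [2,17], [2,17]), (1, 61, [], []), (1, 68, [2,17], [6,7]), (1, 84, [2,17], [20,23]),
  (1, 112, [1,10], [2,17]), (1, 113, [], []), (1, 124, [2,17], [9,12]), (1, 137, [], []), (1, 195, [], []),
  (1, 196, [1,10], [6,7]), (1, 197, [1,10], [9,12]), (1, 217, [], []), (1, 228, [1,10], [20,23]),
  (1, 308, [], []), (1, 311, [], []), (1, 353, [], [])]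

/-- The tuples with the missing generator. -/
def tuples : List (ℕ × ℕ × ℕ × ℕ × List ℕ) := [
  (1, 38, 2, 2, [6,2,6,2,6]), (1, 38, 2, 17, [6,2,6,2,6]), (1, 38, 17, 2, [6,2,6,2,6]),
  (1, 38, 17, 17, [6,2,6,2,6]), (1, 68, 2, 6, [6,3,6,3,6]), (1, 68, 2, 7, [6,3,6,3,6]),
  (1, 68, 17, 6, [6,3,6,3,6]), (1, 68, 17, 7, [6,3,6,3,6]), (1, 84, 2, 20, [2,6,2]),
  (1, 84, 2, 23, [2,6,2]), (1, 84, 17, 20, [2,6,2]), (1, 84, 17, 23, [2,6,2]),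
  (1, 112, 1, 2, [2,6,2,6,2,6,2]), (1, 112, 1, 17, [2,6,2,6,2,6,2]), (1, 112, 10, 2, [2,6,2,6,2,6,2]),
  (1, 112, 10, 17, [2,6,2,6,2,6,2]), (1, 124, 2, 9, [3,7,3]), (1, 124, 2, 12, [3,7,3]),
  (1, 124, 17, 9, [3,7,3]), (1, 124, 17, 12, [3,7,3]), (1, 196, 1, 6, [6,3,6,3,2,6,2]),
  (1, 196, 1, 7, [6,3,6,3,2,6,2]), (1, 196, 10, 6, [6,3,6,3,2,6,2]), (1, 196, 10, 7, [6,3,6,3,2,6,2]),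
  (1, 197, 1, 9, [2,3,7,3,2]), (1, 197, 1, 12, [2,3,7,3,2]), (1, 197, 10, 9, [2,3,7,3,2]),
  (1, 197, 10, 12, [2,3,7,3,2]), (1, 228, 1, 20, [6]), (1, 228, 1, 23, [6]), (1, 228, 10, 20, [6]),
  (1, 228, 10, 23, [6])]

/-- The conjugates ordered by the images of the base. -/
def xSort : List ℕ := [
  28, 49, 50, 137, 0, 61, 5, 33, 1, 289, 10, 178, 83, 592, 363, 91, 112, 82, 501, 228, 353, 84, 38, 195,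
  627, 180, 2, 177, 233, 13, 103, 48, 229, 102, 287, 144, 17, 27, 544, 420, 139, 86, 217, 113, 196, 197,
  311, 68, 308, 124, 619, 626, 600, 517, 576, 383, 614, 511, 581, 521, 565, 625, 447, 561, 523, 396, 265,
  479, 543, 317, 586, 449, 469, 382, 371, 480, 542, 256, 76, 74, 597, 589, 128, 129, 558, 505, 503, 208,
  473, 220, 531, 67, 502, 41, 72, 127, 310, 309, 440, 77, 437, 130, 629, 628, 601, 612, 332, 36, 566, 37,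
  365, 364, 342, 397, 182, 522, 185, 451, 153, 152, 450, 485, 212, 104, 249, 107, 563, 564, 604, 569, 240,
  530, 453, 57, 56, 239, 467, 624, 319, 606, 106, 367, 64, 330, 366, 584, 540, 610, 516, 603, 538, 520,
  381, 406, 405, 274, 254, 380, 155, 169, 285, 276, 170, 98, 175, 236, 209, 219, 341, 333, 71, 40, 512,
  556, 266, 387, 445, 314, 402, 162, 200, 416, 277, 149, 283, 95, 156, 407, 415, 242, 63, 373, 118, 320,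
  441, 331, 454, 468, 24, 11, 593, 500, 615, 3, 4, 594, 8, 492, 19, 616, 7, 20, 494, 355, 12, 545, 211,
  470, 496, 472, 133, 391, 119, 222, 261, 583, 344, 206, 337, 529, 334, 225, 93, 136, 595, 115, 617, 203,
  117, 81, 158, 62, 547, 507, 47, 34, 504, 75, 438, 141, 26, 15, 360, 43, 234, 421, 230, 73, 372, 80, 489,
  85, 243, 140, 134, 138, 120, 439, 368, 205, 116, 508, 151, 183, 326, 241, 577, 294, 192, 204, 328, 555,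
  602, 252, 535, 471, 154, 400, 464, 442, 554, 551, 579, 318, 433, 92, 458, 352, 201, 323, 570, 227, 52,
  495, 374, 541, 618, 351, 553, 399, 549, 384, 532, 509, 245, 412, 150, 286, 588, 321, 457, 369, 202, 598,
  90, 176, 322, 506, 224, 345, 572, 210, 213, 161, 327, 559, 181, 122, 258, 525, 184, 455, 463, 483, 386,
  270, 313, 444, 79, 105, 232, 357, 126, 146, 490, 70, 66, 354, 45, 244, 188, 168, 460, 325, 186, 392, 349,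
  109, 123, 524, 296, 484, 456, 573, 272, 215, 216, 403, 526, 388, 160, 560, 414, 475, 486, 466, 339, 340,
  443, 262, 260, 389, 165, 315, 269, 199, 264, 223, 207, 582, 132, 336, 596, 121, 348, 393, 167, 108, 487,
  250, 324, 189, 179, 221, 477, 135, 88, 356, 226, 145, 288, 533, 343, 303, 9, 6, 23, 362, 546, 493, 238,
  21, 16, 39, 491, 590, 14, 422, 46, 359, 237, 22, 498, 59, 291, 29, 361, 32, 42, 557, 18, 25, 231, 591,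
  110, 53, 235, 426, 58, 410, 299, 609, 159, 89, 481, 173, 100, 142, 94, 346, 190, 537, 281, 96, 280, 148,
  174, 172, 99, 164, 30, 424, 35, 290, 499, 60, 31, 69, 143, 497, 44, 358, 131, 528, 101, 51, 218, 571, 55,
  78, 395, 87, 125, 478, 607, 377, 611, 431, 350, 436, 539, 307, 552, 515, 452, 623, 562, 428, 435, 194,
  568, 587, 306, 295, 574, 510, 375, 446, 54, 65, 279, 111, 418, 293, 193, 462, 425, 97, 114, 257, 246,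
  267, 550, 621, 385, 413, 599, 429, 259, 282, 398, 147, 157, 166, 198, 548, 575, 304, 474, 251, 434, 312,
  620, 271, 338, 335, 622, 376, 401, 519, 298, 273, 423, 461, 370, 316, 404, 191, 459, 305, 578, 448, 409,
  427, 302, 187, 163, 297, 278, 171, 214, 248, 292, 419, 567, 613, 430, 476, 329, 513, 465, 514, 488, 585,
  300, 605, 432, 527, 518, 580, 255, 417, 247, 390, 608, 378, 411, 482, 534, 379, 275, 408, 394, 301, 536,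
  347, 268, 284, 253, 263]

/-- A conjugate of a centralised by 256 members of the Sylow list. -/
def xBig : ℕ := 377

/-- The conjugates whose product with a has order 3. -/
def bList : List ℕ := [
  1, 2, 3, 4, 5, 6, 7, 8, 9, 10, 11, 12, 13, 14, 15, 17, 19, 20, 22, 23, 24, 26, 28, 29, 30, 32, 33, 35,
  43, 46, 59, 60, 206, 225, 327, 328, 329, 345, 348, 349, 399, 431, 460, 463, 464, 465, 466, 483, 484, 486,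
  487, 526, 532, 533, 534, 552, 560, 573, 577, 578, 579, 580, 587, 588]

/-- The same in the centraliser of a, with f. -/
def eList : List ℕ := [
  1, 2, 3, 4, 5, 6, 7, 8, 9, 10, 11, 12, 13, 14, 15, 17, 19, 20, 22, 23, 24, 26, 28, 29, 30, 32, 33, 35,
  43, 46, 59, 60, 206, 225, 327, 328, 329, 345, 348, 349, 399, 431, 460, 463, 464, 465, 466, 483, 484, 486,
  487, 526, 532, 533, 534, 552, 560, 573, 577, 578, 579, 580, 587, 588]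

/-- Conjugators from a to its conjugates. -/
def xConj : List (List ℕ) := [
  [], [1], [2,1], [6,1], [7,1], [3,2,1], [6,2,1], [7,2,1], [1,6,1], [2,6,1], [6,6,1], [1,7,1], [2,7,1],
  [2,3,2,1], [6,3,2,1], [7,3,2,1], [1,6,2,1], [6,6,2,1], [1,7,2,1], [2,7,2,1], [2,1,6,1], [1,2,6,1],
  [3,2,6,1], [7,2,6,1], [6,1,7,1], [1,2,7,1], [3,2,7,1], [1,2,3,2,1], [3,2,3,2,1], [6,2,3,2,1],
  [7,2,3,2,1], [1,6,3,2,1], [2,6,3,2,1], [6,6,3,2,1], [1,7,3,2,1], [2,7,3,2,1], [6,1,6,2,1], [7,1,6,2,1],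
  [1,6,6,2,1], [2,1,7,2,1], [6,1,7,2,1], [7,1,7,2,1], [1,2,1,6,1], [3,2,1,6,1], [3,1,2,6,1], [7,1,2,6,1],
  [7,3,2,6,1], [3,1,2,7,1], [6,1,2,7,1], [7,1,2,7,1], [3,1,2,3,2,1], [6,1,2,3,2,1], [7,1,2,3,2,1],
  [1,6,2,3,2,1], [1,7,2,3,2,1], [2,1,6,3,2,1], [6,1,6,3,2,1], [7,1,6,3,2,1], [1,2,6,3,2,1], [6,2,6,3,2,1],
  [7,2,6,3,2,1], [1,6,6,3,2,1], [2,1,7,3,2,1], [6,1,7,3,2,1], [7,1,7,3,2,1], [1,2,7,3,2,1], [6,6,1,6,2,1],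
  [1,7,1,6,2,1], [6,1,6,6,2,1], [3,2,1,7,2,1], [6,2,1,7,2,1], [1,6,1,7,2,1], [2,6,1,7,2,1], [6,6,1,7,2,1],
  [2,7,1,7,2,1], [3,1,2,1,6,1], [6,1,2,1,6,1], [7,1,2,1,6,1], [2,3,1,2,6,1], [7,3,1,2,6,1], [1,7,1,2,6,1],
  [2,3,1,2,7,1], [6,3,1,2,7,1], [7,3,1,2,7,1], [1,6,1,2,7,1], [6,6,1,2,7,1], [2,3,1,2,3,2,1],
  [6,3,1,2,3,2,1], [7,3,1,2,3,2,1], [1,6,1,2,3,2,1], [2,6,1,2,3,2,1], [6,6,1,2,3,2,1], [1,7,1,2,3,2,1],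
  [2,7,1,2,3,2,1], [2,1,6,2,3,2,1], [6,1,6,2,3,2,1], [7,1,6,2,3,2,1], [2,1,7,2,3,2,1], [6,1,7,2,3,2,1],
  [7,1,7,2,3,2,1], [1,2,1,6,3,2,1], [3,2,1,6,3,2,1], [6,2,1,6,3,2,1], [7,2,1,6,3,2,1], [2,6,1,6,3,2,1],
  [6,6,1,6,3,2,1], [1,7,1,6,3,2,1], [2,7,1,6,3,2,1], [6,1,2,6,3,2,1], [7,1,2,6,3,2,1], [1,6,2,6,3,2,1],
  [1,7,2,6,3,2,1], [2,1,6,6,3,2,1], [6,1,6,6,3,2,1], [1,2,1,7,3,2,1], [3,2,1,7,3,2,1], [6,2,1,7,3,2,1],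
  [7,2,1,7,3,2,1], [1,6,1,7,3,2,1], [2,6,1,7,3,2,1], [6,6,1,7,3,2,1], [2,7,1,7,3,2,1], [6,1,2,7,3,2,1],
  [7,1,2,7,3,2,1], [2,6,1,6,6,2,1], [2,3,2,1,7,2,1], [6,3,2,1,7,2,1], [3,2,6,1,7,2,1], [3,2,7,1,7,2,1],
  [6,3,1,2,1,6,1], [7,3,1,2,1,6,1], [3,2,3,1,2,6,1], [6,2,3,1,2,6,1], [7,2,3,1,2,6,1], [1,7,3,1,2,6,1],
  [2,7,3,1,2,6,1], [3,2,3,1,2,7,1], [1,6,3,1,2,7,1], [6,6,3,1,2,7,1], [3,2,3,1,2,3,2,1], [6,2,3,1,2,3,2,1],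
  [7,2,3,1,2,3,2,1], [1,6,3,1,2,3,2,1], [2,6,3,1,2,3,2,1], [6,6,3,1,2,3,2,1], [1,7,3,1,2,3,2,1],
  [2,7,3,1,2,3,2,1], [2,1,6,1,2,3,2,1], [6,1,6,1,2,3,2,1], [7,1,6,1,2,3,2,1], [1,2,6,1,2,3,2,1],
  [3,2,6,1,2,3,2,1], [6,2,6,1,2,3,2,1], [7,2,6,1,2,3,2,1], [2,1,7,1,2,3,2,1], [6,1,7,1,2,3,2,1],
  [7,1,7,1,2,3,2,1], [1,2,7,1,2,3,2,1], [3,2,7,1,2,3,2,1], [3,2,1,6,2,3,2,1], [6,2,1,6,2,3,2,1],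
  [7,2,1,6,2,3,2,1], [2,6,1,6,2,3,2,1], [6,6,1,6,2,3,2,1], [1,7,1,6,2,3,2,1], [2,7,1,6,2,3,2,1],
  [3,2,1,7,2,3,2,1], [6,2,1,7,2,3,2,1], [7,2,1,7,2,3,2,1], [1,6,1,7,2,3,2,1], [2,6,1,7,2,3,2,1],
  [6,6,1,7,2,3,2,1], [2,7,1,7,2,3,2,1], [3,1,2,1,6,3,2,1], [6,1,2,1,6,3,2,1], [7,1,2,1,6,3,2,1],
  [2,3,2,1,6,3,2,1], [6,3,2,1,6,3,2,1], [7,3,2,1,6,3,2,1], [6,6,2,1,6,3,2,1], [1,7,2,1,6,3,2,1],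
  [1,2,6,1,6,3,2,1], [3,2,6,1,6,3,2,1], [6,2,6,1,6,3,2,1], [1,2,7,1,6,3,2,1], [3,2,7,1,6,3,2,1],
  [2,6,1,2,6,3,2,1], [6,6,1,2,6,3,2,1], [1,7,1,2,6,3,2,1], [2,7,1,2,6,3,2,1], [2,1,6,2,6,3,2,1],
  [6,1,6,2,6,3,2,1], [7,1,6,2,6,3,2,1], [2,1,7,2,6,3,2,1], [6,1,7,2,6,3,2,1], [3,2,1,6,6,3,2,1],
  [6,2,1,6,6,3,2,1], [2,6,1,6,6,3,2,1], [3,1,2,1,7,3,2,1], [6,1,2,1,7,3,2,1], [7,1,2,1,7,3,2,1],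
  [2,3,2,1,7,3,2,1], [6,3,2,1,7,3,2,1], [7,3,2,1,7,3,2,1], [1,6,2,1,7,3,2,1], [6,6,2,1,7,3,2,1],
  [1,2,6,1,7,3,2,1], [3,2,6,1,7,3,2,1], [6,2,6,1,7,3,2,1], [7,2,6,1,7,3,2,1], [1,2,7,1,7,3,2,1],
  [3,2,7,1,7,3,2,1], [1,6,1,2,7,3,2,1], [2,6,1,2,7,3,2,1], [6,6,1,2,7,3,2,1], [1,7,1,2,7,3,2,1],
  [2,7,1,2,7,3,2,1], [3,2,6,1,6,6,2,1], [3,2,3,2,1,7,2,1], [6,2,3,2,1,7,2,1], [7,2,3,2,1,7,2,1],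
  [2,6,3,2,1,7,2,1], [6,3,2,3,1,2,6,1], [7,3,2,3,1,2,6,1], [1,6,2,3,1,2,6,1], [1,7,2,3,1,2,6,1],
  [1,2,7,3,1,2,6,1], [2,3,2,3,1,2,7,1], [2,1,6,3,1,2,7,1], [2,3,2,3,1,2,3,2,1], [6,3,2,3,1,2,3,2,1],
  [7,3,2,3,1,2,3,2,1], [1,6,2,3,1,2,3,2,1], [6,6,2,3,1,2,3,2,1], [1,7,2,3,1,2,3,2,1], [2,1,6,3,1,2,3,2,1],
  [7,1,6,3,1,2,3,2,1], [1,2,6,3,1,2,3,2,1], [3,2,6,3,1,2,3,2,1], [6,2,6,3,1,2,3,2,1], [7,2,6,3,1,2,3,2,1],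
  [2,1,7,3,1,2,3,2,1], [6,1,7,3,1,2,3,2,1], [1,2,7,3,1,2,3,2,1], [3,2,7,3,1,2,3,2,1], [1,2,1,6,1,2,3,2,1],
  [3,2,1,6,1,2,3,2,1], [6,6,1,6,1,2,3,2,1], [7,1,2,6,1,2,3,2,1], [6,3,2,6,1,2,3,2,1], [1,6,2,6,1,2,3,2,1],
  [1,2,1,7,1,2,3,2,1], [3,2,1,7,1,2,3,2,1], [6,2,1,7,1,2,3,2,1], [2,6,1,7,1,2,3,2,1], [6,6,1,7,1,2,3,2,1],
  [2,7,1,7,1,2,3,2,1], [3,1,2,7,1,2,3,2,1], [6,1,2,7,1,2,3,2,1], [2,3,2,1,6,2,3,2,1], [6,3,2,1,6,2,3,2,1],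
  [7,3,2,1,6,2,3,2,1], [1,6,2,1,6,2,3,2,1], [6,6,2,1,6,2,3,2,1], [1,7,2,1,6,2,3,2,1], [1,2,6,1,6,2,3,2,1],
  [3,2,6,1,6,2,3,2,1], [6,2,6,1,6,2,3,2,1], [6,1,7,1,6,2,3,2,1], [1,2,7,1,6,2,3,2,1], [3,2,7,1,6,2,3,2,1],
  [2,3,2,1,7,2,3,2,1], [7,3,2,1,7,2,3,2,1], [6,6,2,1,7,2,3,2,1], [2,1,6,1,7,2,3,2,1], [7,1,6,1,7,2,3,2,1],
  [1,2,6,1,7,2,3,2,1], [3,2,6,1,7,2,3,2,1], [6,2,6,1,7,2,3,2,1], [7,2,6,1,7,2,3,2,1], [1,2,7,1,7,2,3,2,1],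
  [3,2,7,1,7,2,3,2,1], [2,3,1,2,1,6,3,2,1], [7,3,1,2,1,6,3,2,1], [6,6,1,2,1,6,3,2,1], [1,7,1,2,1,6,3,2,1],
  [1,2,3,2,1,6,3,2,1], [1,7,3,2,1,6,3,2,1], [1,6,6,2,1,6,3,2,1], [2,1,7,2,1,6,3,2,1], [6,1,7,2,1,6,3,2,1],
  [7,1,7,2,1,6,3,2,1], [6,1,2,6,1,6,3,2,1], [7,1,2,6,1,6,3,2,1], [1,6,2,6,1,6,3,2,1], [6,1,2,7,1,6,3,2,1],
  [3,2,6,1,2,6,3,2,1], [7,2,6,1,2,6,3,2,1], [7,1,7,1,2,6,3,2,1], [3,2,1,6,2,6,3,2,1], [7,2,1,6,2,6,3,2,1],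
  [2,6,1,6,2,6,3,2,1], [6,6,1,6,2,6,3,2,1], [2,7,1,6,2,6,3,2,1], [3,2,1,7,2,6,3,2,1], [7,2,1,7,2,6,3,2,1],
  [1,6,1,7,2,6,3,2,1], [2,6,1,7,2,6,3,2,1], [6,3,2,1,6,6,3,2,1], [1,6,2,1,6,6,3,2,1], [1,2,6,1,6,6,3,2,1],
  [3,2,6,1,6,6,3,2,1], [2,3,1,2,1,7,3,2,1], [6,3,1,2,1,7,3,2,1], [7,3,1,2,1,7,3,2,1], [1,6,1,2,1,7,3,2,1],
  [6,6,1,2,1,7,3,2,1], [1,7,1,2,1,7,3,2,1], [1,2,3,2,1,7,3,2,1], [6,2,3,2,1,7,3,2,1], [7,2,3,2,1,7,3,2,1],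
  [1,6,3,2,1,7,3,2,1], [6,6,3,2,1,7,3,2,1], [2,7,3,2,1,7,3,2,1], [6,1,6,2,1,7,3,2,1], [7,1,6,2,1,7,3,2,1],
  [1,6,6,2,1,7,3,2,1], [3,1,2,6,1,7,3,2,1], [6,1,2,6,1,7,3,2,1], [7,1,2,6,1,7,3,2,1], [6,3,2,6,1,7,3,2,1],
  [7,3,2,6,1,7,3,2,1], [1,6,2,6,1,7,3,2,1], [1,7,2,6,1,7,3,2,1], [3,1,2,7,1,7,3,2,1], [7,1,2,7,1,7,3,2,1],
  [1,2,6,1,2,7,3,2,1], [3,2,6,1,2,7,3,2,1], [7,2,6,1,2,7,3,2,1], [1,2,7,1,2,7,3,2,1], [3,2,7,1,2,7,3,2,1],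
  [1,6,2,3,2,1,7,2,1], [1,7,2,3,2,1,7,2,1], [1,2,6,3,2,1,7,2,1], [1,6,3,2,3,1,2,6,1], [1,7,3,2,3,1,2,6,1],
  [6,1,6,2,3,1,2,6,1], [7,1,6,2,3,1,2,6,1], [6,1,7,2,3,1,2,6,1], [7,1,7,2,3,1,2,6,1], [6,1,2,7,3,1,2,6,1],
  [7,1,2,7,3,1,2,6,1], [1,2,3,2,3,1,2,7,1], [3,2,1,6,3,1,2,7,1], [1,6,3,2,3,1,2,3,2,1],
  [1,7,3,2,3,1,2,3,2,1], [2,1,6,2,3,1,2,3,2,1], [6,1,6,2,3,1,2,3,2,1], [7,1,6,2,3,1,2,3,2,1],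
  [6,1,7,2,3,1,2,3,2,1], [7,1,7,2,3,1,2,3,2,1], [1,2,1,6,3,1,2,3,2,1], [3,1,2,6,3,1,2,3,2,1],
  [7,1,2,6,3,1,2,3,2,1], [6,3,2,6,3,1,2,3,2,1], [7,3,2,6,3,1,2,3,2,1], [1,6,2,6,3,1,2,3,2,1],
  [1,7,2,6,3,1,2,3,2,1], [1,2,1,7,3,1,2,3,2,1], [3,2,1,7,3,1,2,3,2,1], [6,2,1,7,3,1,2,3,2,1],
  [2,6,1,7,3,1,2,3,2,1], [3,1,2,7,3,1,2,3,2,1], [7,1,2,7,3,1,2,3,2,1], [3,1,2,1,6,1,2,3,2,1],
  [2,3,2,1,6,1,2,3,2,1], [3,1,2,1,7,1,2,3,2,1], [2,3,2,1,7,1,2,3,2,1], [6,3,2,1,7,1,2,3,2,1],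
  [1,6,2,1,7,1,2,3,2,1], [1,2,6,1,7,1,2,3,2,1], [3,2,6,1,7,1,2,3,2,1], [1,2,7,1,7,1,2,3,2,1],
  [3,2,7,1,7,1,2,3,2,1], [1,2,3,2,1,6,2,3,2,1], [3,2,3,2,1,6,2,3,2,1], [6,2,3,2,1,6,2,3,2,1],
  [7,2,3,2,1,6,2,3,2,1], [1,6,3,2,1,6,2,3,2,1], [2,6,3,2,1,6,2,3,2,1], [6,6,3,2,1,6,2,3,2,1],
  [1,7,3,2,1,6,2,3,2,1], [6,1,6,2,1,6,2,3,2,1], [7,1,6,2,1,6,2,3,2,1], [1,6,6,2,1,6,2,3,2,1],
  [7,1,7,2,1,6,2,3,2,1], [3,1,2,6,1,6,2,3,2,1], [7,1,2,6,1,6,2,3,2,1], [6,3,2,6,1,6,2,3,2,1],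
  [1,6,2,6,1,6,2,3,2,1], [1,2,3,2,1,7,2,3,2,1], [3,2,3,2,1,7,2,3,2,1], [6,2,3,2,1,7,2,3,2,1],
  [2,7,3,2,1,7,2,3,2,1], [1,6,6,2,1,7,2,3,2,1], [1,2,1,6,1,7,2,3,2,1], [3,2,1,6,1,7,2,3,2,1],
  [3,1,2,6,1,7,2,3,2,1], [7,1,2,6,1,7,2,3,2,1], [6,3,2,6,1,7,2,3,2,1], [7,3,2,6,1,7,2,3,2,1],
  [6,1,2,7,1,7,2,3,2,1], [1,2,3,1,2,1,6,3,2,1], [3,2,3,1,2,1,6,3,2,1], [6,2,3,1,2,1,6,3,2,1],
  [1,7,3,1,2,1,6,3,2,1], [2,7,3,1,2,1,6,3,2,1], [6,1,7,1,2,1,6,3,2,1], [6,1,2,3,2,1,6,3,2,1],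
  [7,1,2,3,2,1,6,3,2,1], [3,2,1,7,2,1,6,3,2,1], [6,2,1,7,2,1,6,3,2,1], [2,7,1,7,2,1,6,3,2,1],
  [2,6,1,2,6,1,6,3,2,1], [1,7,1,2,6,1,6,3,2,1], [2,7,1,2,6,1,6,3,2,1], [6,1,6,2,6,1,6,3,2,1],
  [7,1,6,2,6,1,6,3,2,1], [1,6,1,2,7,1,6,3,2,1], [2,3,2,1,6,2,6,3,2,1], [7,3,2,1,6,2,6,3,2,1],
  [1,7,2,1,6,2,6,3,2,1], [3,2,6,1,6,2,6,3,2,1], [3,2,7,1,6,2,6,3,2,1], [2,3,2,1,7,2,6,3,2,1],
  [7,3,2,1,7,2,6,3,2,1], [3,2,6,1,7,2,6,3,2,1], [1,6,3,2,1,6,6,3,2,1], [6,1,6,2,1,6,6,3,2,1],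
  [7,1,6,2,1,6,6,3,2,1], [3,1,2,6,1,6,6,3,2,1], [7,1,2,6,1,6,6,3,2,1], [1,2,3,1,2,1,7,3,2,1],
  [7,2,3,1,2,1,7,3,2,1], [1,6,3,1,2,1,7,3,2,1], [2,6,3,1,2,1,7,3,2,1], [6,6,3,1,2,1,7,3,2,1],
  [1,7,3,1,2,1,7,3,2,1], [1,6,6,1,2,1,7,3,2,1], [2,1,7,1,2,1,7,3,2,1], [6,1,7,1,2,1,7,3,2,1],
  [7,1,7,1,2,1,7,3,2,1], [6,1,2,3,2,1,7,3,2,1], [1,6,2,3,2,1,7,3,2,1], [1,7,2,3,2,1,7,3,2,1],
  [6,1,6,3,2,1,7,3,2,1], [7,1,6,3,2,1,7,3,2,1], [1,6,6,3,2,1,7,3,2,1], [1,2,7,3,2,1,7,3,2,1],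
  [6,6,1,6,2,1,7,3,2,1], [1,7,1,6,2,1,7,3,2,1], [6,1,6,6,2,1,7,3,2,1], [7,1,6,6,2,1,7,3,2,1],
  [2,3,1,2,6,1,7,3,2,1], [6,3,1,2,6,1,7,3,2,1], [7,3,1,2,6,1,7,3,2,1], [6,6,1,2,6,1,7,3,2,1],
  [1,6,3,2,6,1,7,3,2,1], [1,7,3,2,6,1,7,3,2,1], [7,1,6,2,6,1,7,3,2,1], [6,1,7,2,6,1,7,3,2,1],
  [1,7,1,2,7,1,7,3,2,1], [3,1,2,6,1,2,7,3,2,1], [7,1,2,6,1,2,7,3,2,1], [7,3,2,6,1,2,7,3,2,1],
  [3,1,2,7,1,2,7,3,2,1], [6,1,2,7,1,2,7,3,2,1], [6,1,6,2,3,2,1,7,2,1], [7,1,6,2,3,2,1,7,2,1],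
  [6,1,7,2,3,2,1,7,2,1], [7,1,2,6,3,2,1,7,2,1], [6,1,6,3,2,3,1,2,6,1], [7,1,6,3,2,3,1,2,6,1],
  [2,1,7,3,2,3,1,2,6,1], [7,1,7,3,2,3,1,2,6,1], [1,6,1,7,2,3,1,2,6,1], [6,6,1,7,2,3,1,2,6,1],
  [2,7,1,7,2,3,1,2,6,1], [1,6,1,2,7,3,1,2,6,1], [2,1,6,3,2,3,1,2,3,2,1], [6,1,6,3,2,3,1,2,3,2,1],
  [7,1,6,3,2,3,1,2,3,2,1], [2,1,7,3,2,3,1,2,3,2,1], [6,1,7,3,2,3,1,2,3,2,1], [7,1,7,3,2,3,1,2,3,2,1],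
  [3,2,1,6,2,3,1,2,3,2,1], [6,2,1,6,2,3,1,2,3,2,1], [6,6,1,6,2,3,1,2,3,2,1], [2,6,1,7,2,3,1,2,3,2,1],
  [2,7,1,7,2,3,1,2,3,2,1], [2,3,1,2,6,3,1,2,3,2,1], [7,3,1,2,6,3,1,2,3,2,1], [1,6,3,2,6,3,1,2,3,2,1],
  [1,7,3,2,6,3,1,2,3,2,1], [6,1,6,2,6,3,1,2,3,2,1], [6,1,7,2,6,3,1,2,3,2,1], [3,1,2,1,7,3,1,2,3,2,1],
  [6,1,2,1,7,3,1,2,3,2,1], [7,1,2,1,7,3,1,2,3,2,1], [2,3,2,1,7,3,1,2,3,2,1], [6,3,2,1,7,3,1,2,3,2,1],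
  [3,2,6,1,7,3,1,2,3,2,1], [7,3,1,2,7,3,1,2,3,2,1], [2,3,1,2,1,6,1,2,3,2,1], [1,2,3,2,1,7,1,2,3,2,1],
  [3,2,3,2,1,7,1,2,3,2,1], [6,2,3,2,1,7,1,2,3,2,1], [7,2,3,2,1,7,1,2,3,2,1], [1,6,3,2,1,7,1,2,3,2,1],
  [2,6,3,2,1,7,1,2,3,2,1], [3,1,2,6,1,7,1,2,3,2,1], [3,1,2,7,1,7,1,2,3,2,1], [7,1,2,7,1,7,1,2,3,2,1],
  [1,7,2,3,2,1,6,2,3,2,1], [6,1,6,3,2,1,6,2,3,2,1], [7,1,6,3,2,1,6,2,3,2,1], [1,2,6,3,2,1,6,2,3,2,1],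
  [1,6,6,3,2,1,6,2,3,2,1], [7,1,7,3,2,1,6,2,3,2,1], [6,6,1,6,2,1,6,2,3,2,1], [7,3,1,2,6,1,6,2,3,2,1],
  [1,7,1,2,6,1,6,2,3,2,1], [1,6,3,2,6,1,6,2,3,2,1], [6,1,6,2,6,1,6,2,3,2,1], [7,1,6,2,6,1,6,2,3,2,1],
  [3,1,2,3,2,1,7,2,3,2,1], [6,1,2,3,2,1,7,2,3,2,1], [7,1,2,3,2,1,7,2,3,2,1], [3,1,2,1,6,1,7,2,3,2,1],
  [7,1,2,1,6,1,7,2,3,2,1], [2,3,2,1,6,1,7,2,3,2,1], [3,1,2,3,1,2,1,6,3,2,1], [6,1,2,3,1,2,1,6,3,2,1],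
  [1,2,7,3,1,2,1,6,3,2,1], [2,3,2,1,7,2,1,6,3,2,1], [6,3,2,1,7,2,1,6,3,2,1], [3,2,7,1,7,2,1,6,3,2,1],
  [1,2,7,1,2,6,1,6,3,2,1], [3,2,7,1,2,6,1,6,3,2,1], [1,2,3,2,1,6,2,6,3,2,1], [3,2,3,2,1,6,2,6,3,2,1],
  [7,2,3,2,1,6,2,6,3,2,1], [1,7,3,2,1,6,2,6,3,2,1], [2,7,3,2,1,6,2,6,3,2,1], [1,2,3,2,1,7,2,6,3,2,1],
  [6,2,3,2,1,7,2,6,3,2,1], [2,1,6,3,2,1,6,6,3,2,1], [6,1,6,3,2,1,6,6,3,2,1], [6,6,1,6,2,1,6,6,3,2,1],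
  [7,1,2,3,1,2,1,7,3,2,1], [1,7,2,3,1,2,1,7,3,2,1], [1,2,6,3,1,2,1,7,3,2,1], [1,6,6,3,1,2,1,7,3,2,1],
  [6,1,7,3,1,2,1,7,3,2,1], [7,1,7,3,1,2,1,7,3,2,1], [3,2,1,7,1,2,1,7,3,2,1], [6,2,1,7,1,2,1,7,3,2,1],
  [1,6,1,2,3,2,1,7,3,2,1], [2,6,1,2,3,2,1,7,3,2,1], [2,1,6,2,3,2,1,7,3,2,1], [6,1,7,2,3,2,1,7,3,2,1],
  [7,1,7,2,3,2,1,7,3,2,1], [2,6,1,6,3,2,1,7,3,2,1], [1,7,1,6,3,2,1,7,3,2,1], [6,1,6,6,3,2,1,7,3,2,1],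
  [7,1,6,6,3,2,1,7,3,2,1], [7,1,2,7,3,2,1,7,3,2,1], [6,1,7,1,6,2,1,7,3,2,1], [7,1,7,1,6,2,1,7,3,2,1],
  [2,6,3,1,2,6,1,7,3,2,1], [2,7,3,1,2,6,1,7,3,2,1], [7,1,6,3,2,6,1,7,3,2,1], [6,1,7,3,2,6,1,7,3,2,1],
  [1,6,1,7,2,6,1,7,3,2,1], [7,3,1,2,6,1,2,7,3,2,1], [6,3,1,2,7,1,2,7,3,2,1], [2,6,1,7,2,3,2,1,7,2,1],
  [6,2,1,7,3,2,3,1,2,6,1], [7,2,1,7,3,2,3,1,2,6,1], [7,2,1,6,3,2,3,1,2,3,2,1], [6,6,1,6,3,2,3,1,2,3,2,1],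
  [2,7,1,6,3,2,3,1,2,3,2,1], [6,2,1,7,3,2,3,1,2,3,2,1], [2,6,1,7,3,2,3,1,2,3,2,1],
  [2,7,1,7,3,2,3,1,2,3,2,1], [2,3,2,1,6,2,3,1,2,3,2,1], [6,3,2,1,6,2,3,1,2,3,2,1],
  [2,1,6,3,2,6,3,1,2,3,2,1], [7,3,1,2,1,7,3,1,2,3,2,1], [1,2,3,2,1,7,3,1,2,3,2,1],
  [6,2,3,2,1,7,3,1,2,3,2,1], [1,6,2,3,2,1,7,1,2,3,2,1], [1,2,6,3,2,1,7,1,2,3,2,1],
  [2,3,1,2,6,1,7,1,2,3,2,1], [7,3,1,2,7,1,7,1,2,3,2,1], [2,1,6,6,3,2,1,6,2,3,2,1],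
  [1,7,3,1,2,6,1,6,2,3,2,1], [2,3,1,2,3,2,1,7,2,3,2,1], [6,3,1,2,3,2,1,7,2,3,2,1],
  [7,3,1,2,3,2,1,7,2,3,2,1], [2,3,1,2,1,6,1,7,2,3,2,1], [7,3,1,2,1,6,1,7,2,3,2,1],
  [1,2,3,2,1,6,1,7,2,3,2,1], [2,3,1,2,3,1,2,1,6,3,2,1], [6,3,1,2,3,1,2,1,6,3,2,1],
  [7,2,3,2,1,7,2,1,6,3,2,1], [2,6,3,2,1,7,2,1,6,3,2,1], [3,1,2,7,1,2,6,1,6,3,2,1],
  [3,1,2,3,2,1,6,2,6,3,2,1], [6,1,2,3,2,1,6,2,6,3,2,1], [1,7,2,3,2,1,6,2,6,3,2,1],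
  [1,2,7,3,2,1,6,2,6,3,2,1], [7,1,2,3,2,1,7,2,6,3,2,1], [2,1,6,6,3,1,2,1,7,3,2,1],
  [2,7,1,7,3,1,2,1,7,3,2,1], [6,2,1,6,2,3,2,1,7,3,2,1], [2,7,1,2,7,3,2,1,7,3,2,1],
  [1,6,2,1,7,3,2,3,1,2,3,2,1], [2,1,6,2,3,2,1,7,1,2,3,2,1], [6,1,6,2,3,2,1,7,1,2,3,2,1]]

end CfsgLib.ONanRec.Sub
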