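import Cfsg.Agent.Lib.ONanRec.OneClass
import Cfsg.Agent.Lib.ONanRec.Sub.Data

/-!
# The checks for the subgroups of index 122760 of O'Nan
-/

set_option autoImplicit false
set_option maxRecDepth 100000

namespace CfsgLib.ONanRec.Sub

open CfsgLib.ONanP
open CfsgLib.ONanP.Out (eqG)

/-- A conjugate of a in the centraliser of f. -/
def xW (i : ℕ) : List ℕ := xWords.getD i []

/-- The corresponding conjugate of f in the centraliser of a. -/
def yW (i : ℕ) : List ℕ := swapWord ++ xW i ++ invWord swapWord

/-- The representative of a first involution. -/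
def rW (r : ℕ) : List ℕ := xW (cReps.getD r 0)

/-- The generators of the centraliser of f. -/
def cfGen (k : ℕ) : ℕ := [1, 2, 3, 6].getD k 0

/-- The image of a conjugate under a generator. -/
def xT (i k : ℕ) : ℕ := (xMul.getD i []).getD k 0

/-- The conjugator of an involution commuting with a. -/
def cD (i : ℕ) : List ℕ := (cConj.getD i (0, [])).2

/-- The conjugator from a to a conjugate. -/
def xC (i : ℕ) : List ℕ := xConj.getD i []

/-- The conjugators lie in the centraliser of f and conjugate as claimed. -/
noncomputable def xConjOk (i : ℕ) : Bool :=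
  (xC i).all (fun g => [1, 2, 3, 6, 7].contains g) && eqG (xC i ++ [0] ++ invWord (xC i)) (xW i)

/-- Two words commute. -/
noncomputable def commB (p q : List ℕ) : Bool := eqG (p ++ q) (q ++ p)

/-- The product of the words has order dividing 3. -/
noncomputable def cubeB (p q : List ℕ) : Bool := eqG (p ++ q ++ p ++ q ++ p ++ q) []

/-- The letters are in range. -/
def lettersOk : Bool :=
  (swapWord :: (xWords ++ cConj.map Prod.snd ++ tuples.map fun t => t.2.2.2.2)).all
    fun w => w.all fun g => Nat.blt g 8

/-- The exchanging word. -/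
noncomputable def swapOk : Bool :=
  eqG (swapWord ++ [0] ++ invWord swapWord) [5] && eqG (swapWord ++ [5] ++ invWord swapWord) [0] &&
    eqG (xW 0) [0]

/-- The conjugates are closed under the four generators. -/
noncomputable def xClosed (i : ℕ) : Bool :=
  (List.range 4).all fun k => Nat.blt (xT i k) 630 &&
    eqG ([cfGen k] ++ xW i ++ invWord [cfGen k]) (xW (xT i k))

/-- The conjugates are distinct. -/
noncomputable def xSorted (n : ℕ) : Bool :=
  Nat.blt (xSort.getD n 0) 630 &&
    (Nat.beq n 629 || Nat.blt (qKey (xW (xSort.getD n 0))) (qKey (xW (xSort.getD (n + 1) 0))))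

/-- The members of the Sylow list centralising the distinguished conjugate. -/
noncomputable def bigList : List ℕ :=
  (List.range 512).filter fun n => commB (qW (qSort.getD n 0)) (xW xBig)

/-- An involution `h⁴ f` with `h` in the Sylow list is a conjugate of a. -/
noncomputable def rootOk (i : ℕ) : Bool :=
  let w := qW i ++ qW i ++ qW i ++ qW i ++ [5]
  eqG w [] || eqG w [5] || !(eqG (w ++ w) []) ||
    (Nat.blt (qRoot.getD i 0) 630 && eqG w (xW (qRoot.getD i 0)))

/-- An involution commuting with a is conjugate to a representative fixing a and f. -/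
noncomputable def cOk (i : ℕ) : Bool :=
  !(commB (xW i) [0]) || (Nat.blt (cConj.getD i (0, [])).1 4 && commB (cD i) [0] && commB (cD i) [5] &&
    eqG (cD i ++ rW (cConj.getD i (0, [])).1 ++ invWord (cD i)) (xW i))

/-- The second involutions of a representative are listed. -/
noncomputable def dOk (r j : ℕ) : Bool :=
  !(commB (yW j) [5]) ||
    !(eqG (yW j ++ rW r ++ yW j ++ rW r ++ yW j ++ rW r ++ yW j ++ rW r) [5, 0]) ||
      (dLists.getD r []).contains j

/-- The first and third involutions are among the preselected ones. -/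
noncomputable def preOk (k : ℕ) : Bool :=
  (!(cubeB (xW k) [0]) || eqG (xW k) [0] || bList.contains k) &&
    (!(cubeB (yW k) [5]) || eqG (yW k) [5] || eList.contains k)

/-- The candidates for b and e are listed. -/
noncomputable def beOk (t : ℕ × ℕ × List ℕ × List ℕ) : Bool :=
  (bList.all fun k => !(commB (xW k) (yW t.2.1)) || !(cubeB (xW k) (rW t.1)) ||
      eqG (xW k) (rW t.1) || t.2.2.1.contains k) &&
    eList.all fun k => !(commB (yW k) (rW t.1)) || !(cubeB (yW k) (yW t.2.1)) ||
      eqG (yW k) (yW t.2.1) || t.2.2.2.contains k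

/-- The images of the letters for a tuple. -/
def tW (t : ℕ × ℕ × ℕ × ℕ × List ℕ) (g : ℕ) : List ℕ :=
  if g = 1 then xW t.2.2.1 else if g = 2 then rW t.1 else if g = 3 then yW t.2.1 else
    if g = 4 then yW t.2.2.2.1 else if g = 6 then t.2.2.2.2 else if g = 7 then invWord t.2.2.2.2 else [g]

/-- A tuple satisfies all relators. -/
noncomputable def tupOk (t : ℕ × ℕ × ℕ × ℕ × List ℕ) : Bool :=
  presRels.all fun w => eqG (w.flatMap (tW t)) []

/-- Every pair of candidates is a tuple. -/
def coverOk (t : ℕ × ℕ × List ℕ × List ℕ) : Bool :=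
  t.2.2.1.all fun k => t.2.2.2.all fun l => tuples.any fun u =>
    Nat.beq u.1 t.1 && Nat.beq u.2.1 t.2.1 && Nat.beq u.2.2.1 k && Nat.beq u.2.2.2.1 l

/-- Every pair is in the table. -/
def pairOk : Bool :=
  (List.range 4).all fun r => (dLists.getD r []).all fun j =>
    beLists.any fun t => Nat.beq t.1 r && Nat.beq t.2.1 j

end CfsgLib.ONanRec.Sub
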