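import Cfsg.Agent.Lib.ONanRec.Sub.Check

/-!
# The checks on the lists
-/

set_option autoImplicit false
set_option maxRecDepth 100000

namespace CfsgLib.ONanRec.Sub

open CfsgLib.ONanP
open CfsgLib.ONanP.Out (eqG)

theorem letters_ok : lettersOk = true := by decide +kernel

theorem swap_ok : swapOk = true := by decide +kernel

theorem x_sorted : (List.range 630).all xSorted = true := by decide +kernel

theorem big_ok : bigList.length = 256 ∧ Nat.blt xBig 630 = true := by decide +kernel

theorem qGens_fix : qGens.all (fun w => w.all fun g => [1, 2, 3, 6, 7].contains g) = true := by
  decide +kernel

theorem f_fix : [1, 2, 3, 6].all (fun g => commB [g] [5]) = true := by decide +kernel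

theorem root_ok : (List.range 512).all rootOk = true := by decide +kernel

theorem c_ok : (List.range 630).all cOk = true := by decide +kernel

theorem pair_ok : pairOk = true := by decide +kernel

theorem cover_ok : beLists.all coverOk = true := by decide +kernel

end CfsgLib.ONanRec.Sub
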