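import Cfsg.Agent.Lib.ONanRec.Sub.CheckCand

/-!
# The tuples, first half
-/

set_option autoImplicit false
set_option maxRecDepth 100000

namespace CfsgLib.ONanRec.Sub

open CfsgLib.ONanP
open CfsgLib.ONanP.Out (eqG)

theorem tup_okA : (tuples.take 16).all tupOk = true := by decide +kernel

end CfsgLib.ONanRec.Sub
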