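import Cfsg.Agent.Lib.ONanRec.Basic
import Cfsg.Agent.Lib.ONanRec.Sub.CheckTup

/-!
# The conjugates of a in the centraliser of f in O'Nan
-/

set_option autoImplicit false
set_option maxRecDepth 100000

namespace CfsgLib.ONanRec.Sub

open CfsgLib.ONanP CfsgLib.PresCert Cfsg.Spor
open CfsgLib.ONanP.Out (eqG)

attribute [local irreducible] xWords xMul xConj cConj xSort qWords qGens swapWord tuples

theorem eqG_iff {p q : List ℕ} (hp : ∀ g ∈ p, g < 8) (hq : ∀ g ∈ q, g < 8) :
    eqG p q = true ↔ act gen p = act gen q :=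
  ⟨eq_of_eqG hp hq, eqG_of_eq hp hq⟩

theorem single_lt {g : ℕ} (hg : g < 8) : ∀ a ∈ [g], a < 8 := by
  intro a ha
  rw [List.mem_singleton.1 ha]
  exact hg

theorem act_single (g : ℕ) : act gen [g] = gen g := by rw [act_cons, act_nil, one_mul]

theorem commB_iff {p q : List ℕ} (hp : ∀ g ∈ p, g < 8) (hq : ∀ g ∈ q, g < 8) :
    commB p q = true ↔ Commute (act gen p) (act gen q) := by
  rw [commB, eqG_iff (lt_append hp hq) (lt_append hq hp), act_append, act_append]
  exact eq_comm

theorem getD_lt {L : List (List ℕ)} (h : ∀ w ∈ L, ∀ g ∈ w, g < 8) (i : ℕ) : ∀ g ∈ L.getD i [], g < 8 := by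
  rcases Nat.lt_or_ge i L.length with hi | hi
  · rw [List.getD_eq_getElem _ _ hi]
    exact h _ (List.getElem_mem _)
  · rw [List.getD_eq_default _ _ hi]
    simp

theorem letters_mem {w : List ℕ}
    (hw : w ∈ swapWord :: (xWords ++ cConj.map Prod.snd ++ tuples.map fun t => t.2.2.2.2)) :
    ∀ g ∈ w, g < 8 := by
  have h := letters_ok
  simp only [lettersOk, List.all_eq_true, Nat.blt_eq] at h
  exact h w hw

theorem swap_lt : ∀ g ∈ swapWord, g < 8 := letters_mem List.mem_cons_self

theorem xW_lt (i : ℕ) : ∀ g ∈ xW i, g < 8 :=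
  getD_lt (fun _ hw => letters_mem (List.mem_cons_of_mem _ (List.mem_append_left _ (List.mem_append_left _ hw)))) i

theorem rW_lt (r : ℕ) : ∀ g ∈ rW r, g < 8 := xW_lt _

theorem yW_lt (i : ℕ) : ∀ g ∈ yW i, g < 8 :=
  lt_append (lt_append swap_lt (xW_lt i)) (invWord_lt swap_lt)

theorem cfGen_spec : ∀ k < 4, cfGen k < 8 := by decide

theorem xC_mem {i : ℕ} (hi : i < 630) : ∀ g ∈ xC i, g ∈ cfLetters := by
  have h := List.all_eq_true.1 x_conj i (List.mem_range.2 hi)
  simp only [xConjOk, Bool.and_eq_true, List.all_eq_true, List.contains_iff_mem] at h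
  exact h.1

theorem cfLetters_lt {g : ℕ} (hg : g ∈ cfLetters) : g < 8 := by
  simp only [cfLetters, List.mem_cons, List.not_mem_nil, or_false] at hg
  omega

/-- A conjugate of a. -/
noncomputable def xEl (i : ℕ) : Cfsg.Spor.ON := act gen (xW i)

/-- A conjugate of f in the centraliser of a. -/
noncomputable def yEl (i : ℕ) : Cfsg.Spor.ON := act gen (yW i)

/-- The exchanging element. -/
noncomputable def swapEl : Cfsg.Spor.ON := (act gen swapWord)⁻¹

theorem yEl_eq (i : ℕ) : yEl i = swapEl * xEl i * swapEl⁻¹ := by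
  rw [yEl, yW, act_append, act_append, act_invWord swap_lt, swapEl, xEl, inv_inv, mul_assoc]

theorem swap_spec : swapEl * gen 0 * swapEl⁻¹ = gen 5 ∧ swapEl * gen 5 * swapEl⁻¹ = gen 0 ∧
    xEl 0 = gen 0 := by
  have h := swap_ok
  simp only [swapOk, Bool.and_eq_true] at h
  obtain ⟨⟨h1, h2⟩, h3⟩ := h
  refine ⟨?_, ?_, ?_⟩
  · have e := eq_of_eqG (lt_append (lt_append swap_lt (single_lt (by norm_num))) (invWord_lt swap_lt))
      (single_lt (by norm_num)) h1
    rw [act_append, act_append, act_invWord swap_lt, act_single, act_single] at e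
    rw [swapEl, inv_inv, mul_assoc, e]
  · have e := eq_of_eqG (lt_append (lt_append swap_lt (single_lt (by norm_num))) (invWord_lt swap_lt))
      (single_lt (by norm_num)) h2
    rw [act_append, act_append, act_invWord swap_lt, act_single, act_single] at e
    rw [swapEl, inv_inv, mul_assoc, e]
  · have e := eq_of_eqG (xW_lt 0) (single_lt (by norm_num)) h3
    rwa [act_single] at e

theorem yEl_zero : yEl 0 = gen 5 := by rw [yEl_eq, swap_spec.2.2, swap_spec.1]

theorem xEl_conj {i : ℕ} (hi : i < 630) :
    xEl i = (act gen (xC i))⁻¹ * gen 0 * act gen (xC i) := by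
  have hl : ∀ g ∈ xC i, g < 8 := fun g hg => cfLetters_lt (xC_mem hi g hg)
  have h := List.all_eq_true.1 x_conj i (List.mem_range.2 hi)
  simp only [xConjOk, Bool.and_eq_true] at h
  have e := eq_of_eqG (lt_append (lt_append hl (single_lt (by norm_num))) (invWord_lt hl)) (xW_lt i) h.2
  rw [act_append, act_append, act_invWord hl, act_single] at e
  rw [xEl, ← e, mul_assoc]

/-- The conjugates of a are closed under the centraliser of f. -/
theorem xEl_closed {h : Cfsg.Spor.ON} (hh : h ∈ centF) {i : ℕ} (hi : i < 630) :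
    ∃ j < 630, h * xEl i * h⁻¹ = xEl j := by
  haveI := CfsgLib.ONanP.finite_ON
  set T : Set Cfsg.Spor.ON := {x | ∃ k < 4, x = (gen (cfGen k))⁻¹} with hT
  have hle : centF ≤ Subgroup.closure T := by
    rw [centF, Subgroup.closure_le]
    intro x hx
    simp only [Set.mem_insert_iff, Set.mem_singleton_iff] at hx
    rw [SetLike.mem_coe, ← inv_mem_iff]
    rcases hx with rfl | rfl | rfl | rfl
    exacts [Subgroup.subset_closure ⟨0, by norm_num, rfl⟩, Subgroup.subset_closure ⟨1, by norm_num, rfl⟩,
      Subgroup.subset_closure ⟨2, by norm_num, rfl⟩, Subgroup.subset_closure ⟨3, by norm_num, rfl⟩]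
  have hm := hle hh
  rw [← Subgroup.mem_toSubmonoid, Subgroup.closure_toSubmonoid_of_finite] at hm
  induction hm using Submonoid.closure_induction_left with
  | one => exact ⟨i, hi, by rw [one_mul, inv_one, mul_one]⟩
  | mul_left a ha b hb ih =>
    have hb' : b ∈ centF := by
      have ha' : a ∈ centF := by
        obtain ⟨k, hk, rfl⟩ := ha
        refine inv_mem (Subgroup.subset_closure ?_)
        interval_cases k <;> simp [cfGen]
      simpa using mul_mem (inv_mem ha') hh
    obtain ⟨j, hj, e⟩ := ih hb'
    obtain ⟨k, hk, rfl⟩ := ha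
    have hc := List.all_eq_true.1 x_closed j (List.mem_range.2 hj)
    simp only [xClosed, List.all_eq_true, List.mem_range, Bool.and_eq_true, Nat.blt_eq] at hc
    obtain ⟨h1, h2⟩ := hc k hk
    have hl := single_lt (cfGen_spec k hk)
    have e2 := eq_of_eqG (lt_append (lt_append hl (xW_lt j)) (invWord_lt hl)) (xW_lt _) h2
    rw [act_append, act_append, act_invWord hl, act_single] at e2
    refine ⟨xT j k, h1, ?_⟩
    calc (gen (cfGen k))⁻¹ * b * xEl i * ((gen (cfGen k))⁻¹ * b)⁻¹
        = (gen (cfGen k))⁻¹ * (b * xEl i * b⁻¹) * gen (cfGen k) := by group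
      _ = (gen (cfGen k))⁻¹ * xEl j * gen (cfGen k) := by rw [e]
      _ = xEl (xT j k) := by rw [xEl, xEl, ← e2, mul_assoc]

theorem centF_le : centF ≤ Subgroup.centralizer ({gen 5} : Set Cfsg.Spor.ON) := by
  rw [centF, Subgroup.closure_le]
  have h := f_fix
  simp only [List.all_eq_true] at h
  have key : ∀ g ∈ [1, 2, 3, 6], gen g ∈ Subgroup.centralizer ({gen 5} : Set Cfsg.Spor.ON) := by
    intro g hg
    have hg8 : g < 8 := by simp at hg; omega
    have e := (commB_iff (single_lt hg8) (single_lt (by norm_num : (5 : ℕ) < 8))).1 (h g hg)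
    rw [act_single, act_single] at e
    exact Subgroup.mem_centralizer_singleton_iff.2 e.eq
  intro x hx
  simp only [Set.mem_insert_iff, Set.mem_singleton_iff] at hx
  rcases hx with rfl | rfl | rfl | rfl <;> exact key _ (by simp)

theorem qSyl_le : qSyl ≤ centF := by
  rw [qSyl, Subgroup.closure_le]
  rintro x ⟨k, hk, rfl⟩
  refine act_centF fun g hg => ?_
  have h := qGens_fix
  simp only [List.all_eq_true, List.contains_iff_mem] at h
  unfold qG at hg
  rcases Nat.lt_or_ge k qGens.length with hi | hi
  · rw [List.getD_eq_getElem _ _ hi] at hg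
    exact h _ (List.getElem_mem _) g hg
  · rw [List.getD_eq_default _ _ hi] at hg
    exact absurd hg List.not_mem_nil

theorem xEl_sort_injective : Function.Injective fun n : Fin 630 => xEl (xSort.getD n 0) := by
  have h := x_sorted
  simp only [List.all_eq_true, List.mem_range] at h
  have hstep : ∀ n, n < 629 → qKey (xW (xSort.getD n 0)) < qKey (xW (xSort.getD (n + 1) 0)) := by
    intro n hn
    have h1 := h n (by omega)
    simp only [xSorted, Bool.and_eq_true, Bool.or_eq_true, Nat.beq_eq, Nat.blt_eq] at h1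
    exact h1.2.resolve_left (by omega)
  have hmono : ∀ a d, a + d + 1 < 630 →
      qKey (xW (xSort.getD a 0)) < qKey (xW (xSort.getD (a + d + 1) 0)) := by
    intro a d
    induction d with
    | zero => intro hd; exact hstep a (by omega)
    | succ d ih =>
      intro hd
      exact lt_trans (ih (by omega)) (hstep (a + d + 1) (by omega))
  intro m n hmn
  have hkey : qKey (xW (xSort.getD m 0)) = qKey (xW (xSort.getD n 0)) := by
    have e := eqG_of_eq (xW_lt _) (xW_lt _) hmn
    simp only [eqG, Bool.and_eq_true, Nat.beq_eq] at e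
    rw [qKey, qKey, e.1.1, e.1.2, e.2]
  rcases lt_trichotomy m.val n.val with hlt | hlt | hlt
  · have := hmono m (n - m - 1) (by omega)
    rw [show m.val + (n.val - m.val - 1) + 1 = n.val by omega, hkey] at this
    exact absurd this (lt_irrefl _)
  · exact Fin.ext hlt
  · have := hmono n (m - n - 1) (by omega)
    rw [show n.val + (m.val - n.val - 1) + 1 = m.val by omega, hkey] at this
    exact absurd this (lt_irrefl _)

theorem card_centF_ge : 161280 ≤ Nat.card centF := by
  haveI := CfsgLib.ONanP.finite_ON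
  set K := (Subgroup.centralizer ({gen 0} : Set Cfsg.Spor.ON)).subgroupOf centF with hK
  have hlt : ∀ n : Fin 630, xSort.getD n 0 < 630 := fun n => by
    have h1 := List.all_eq_true.1 x_sorted n (List.mem_range.2 n.2)
    simp only [xSorted, Bool.and_eq_true, Nat.blt_eq] at h1
    exact h1.1
  have h630 : 630 ≤ K.index := by
    have hinj : Function.Injective fun n : Fin 630 =>
        (QuotientGroup.mk (⟨(act gen (xC (xSort.getD n 0)))⁻¹,
          inv_mem (act_centF (xC_mem (hlt n)))⟩ : centF) : centF ⧸ K) := by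
      intro m n hmn
      apply xEl_sort_injective
      have e := QuotientGroup.eq.1 hmn
      rw [hK, Subgroup.mem_subgroupOf, Subgroup.mem_centralizer_singleton_iff] at e
      simp only [Subgroup.coe_mul, Subgroup.coe_inv, inv_inv] at e
      show xEl (xSort.getD m 0) = xEl (xSort.getD n 0)
      rw [xEl_conj (hlt m), xEl_conj (hlt n)]
      set u := act gen (xC (xSort.getD m 0))
      set v := act gen (xC (xSort.getD n 0))
      calc u⁻¹ * gen 0 * u = u⁻¹ * (gen 0 * (u * v⁻¹)) * v := by group
        _ = u⁻¹ * (u * v⁻¹ * gen 0) * v := by rw [e]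
        _ = v⁻¹ * gen 0 * v := by group
    have := Nat.card_le_card_of_injective _ hinj
    rwa [Nat.card_eq_fintype_card (α := Fin 630), Fintype.card_fin] at this
  have h256 : 256 ≤ Nat.card K := by
    have hb : xBig < 630 := by simpa [Nat.blt_eq] using big_ok.2
    set u := act gen (xC xBig) with hu
    have hu' : u ∈ centF := act_centF (xC_mem hb)
    let S : Finset (Fin 512) := Finset.univ.filter fun n => commB (qW (qSort.getD n 0)) (xW xBig) = true
    have hS : S.card = 256 := by
      have e : S.map Fin.valEmbedding = bigList.toFinset := by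
        ext n
        simp only [S, Finset.mem_map, Finset.mem_filter, Finset.mem_univ, true_and, Fin.valEmbedding_apply,
          bigList, List.mem_toFinset, List.mem_filter, List.mem_range]
        exact ⟨fun ⟨a, ha, e⟩ => e ▸ ⟨a.2, ha⟩, fun ⟨hn, ha⟩ => ⟨⟨n, hn⟩, ha, rfl⟩⟩
      rw [← Finset.card_map Fin.valEmbedding, e,
        List.toFinset_card_of_nodup (show bigList.Nodup from List.nodup_range.filter _), big_ok.1]
    have hmem : ∀ n : Fin 512, act gen (qW (qSort.getD n 0)) ∈ centF := fun n => qSyl_le (by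
      have h1 := List.all_eq_true.1 q_sorted n (List.mem_range.2 n.2)
      simp only [qSorted, Bool.and_eq_true, Nat.blt_eq] at h1
      exact el_mem ⟨_, h1.1⟩)
    have hinj : Function.Injective fun n : {n // n ∈ S} =>
        (⟨⟨u * act gen (qW (qSort.getD n.1 0)) * u⁻¹, mul_mem (mul_mem hu' (hmem n.1)) (inv_mem hu')⟩, by
          rw [hK, Subgroup.mem_subgroupOf, Subgroup.mem_centralizer_singleton_iff]
          have hc := (commB_iff (qW_lt _) (xW_lt _)).1 (Finset.mem_filter.1 n.2).2
          have hx : act gen (xW xBig) = u⁻¹ * gen 0 * u := xEl_conj hb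
          rw [hx] at hc
          set q := act gen (qW (qSort.getD n.1 0))
          calc u * q * u⁻¹ * gen 0 = u * (q * (u⁻¹ * gen 0 * u)) * u⁻¹ := by group
            _ = u * (u⁻¹ * gen 0 * u * q) * u⁻¹ := by rw [hc.eq]
            _ = gen 0 * (u * q * u⁻¹) := by group⟩ : K) := by
      intro m n hmn
      have e := congrArg (fun k : K => ((k : centF) : Cfsg.Spor.ON)) hmn
      simp only [mul_left_inj, mul_right_inj] at e
      exact Subtype.ext (el_sort_injective e)
    have := Nat.card_le_card_of_injective _ hinj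
    rwa [Nat.card_eq_fintype_card, Fintype.card_coe, hS] at this
  have := K.index_mul_card
  calc 161280 = 630 * 256 := by norm_num
    _ ≤ K.index * Nat.card K := Nat.mul_le_mul h630 h256
    _ = Nat.card centF := this

theorem centF_eq (hC : Nat.card (Subgroup.centralizer ({gen 5} : Set Cfsg.Spor.ON)) = 161280) :
    centF = Subgroup.centralizer ({gen 5} : Set Cfsg.Spor.ON) := by
  haveI := CfsgLib.ONanP.finite_ON
  refine SetLike.coe_injective (Set.eq_of_subset_of_ncard_le centF_le ?_ (Set.toFinite _))
  rw [← Nat.card_coe_set_eq, ← Nat.card_coe_set_eq]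
  exact hC.le.trans card_centF_ge

end CfsgLib.ONanRec.Sub
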