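import Cfsg.Agent.Lib.ONanRec.Sub.Rigid
import Cfsg.Agent.Lib.ONanP.Plane
import Cfsg.Agent.Lib.Classical.GLOrder
import Cfsg.Agent.S0813

/-!
# A subgroup with a normal subgroup PSL(3,7) of index 2 is an image of the subgroup of the six involutions
-/

set_option autoImplicit false

namespace CfsgLib.ONanRec.Sub

open CfsgLib.ONanP CfsgLib.PresCert Subgroup
open scoped Matrix

/-- The group PSL(3,7). -/
abbrev PSL37 : Type := Matrix.ProjectiveSpecialLinearGroup (Fin 3) (ZMod 7)

theorem card_aut : Nat.card (MulAut PSL37) = 6 * Nat.card PSL37 := by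
  haveI : Fact (Nat.Prime 7) := ⟨by norm_num⟩
  have h := Cfsg.Agent.S0813.result (F := ZMod 7) 7 1 (le_refl 1) (by rw [pow_one]; exact ZMod.card 7) 3 (by norm_num)
    (fun h => absurd h (by norm_num))
  have h2 := CfsgLib.Classical.card_SL_mul (F := ZMod 7) (q := 7) (ZMod.card 7) 3 (by norm_num)
  rw [Fin.prod_univ_three] at h2
  norm_num at h2
  rw [h, if_neg (by decide), CfsgLib.Classical.card_PGL_eq_card_SL, card_psl]
  rw [Nat.card_eq_fintype_card]
  omega

theorem psl_simple : IsSimpleGroup PSL37 := by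
  haveI : Fact (Nat.Prime 7) := ⟨by norm_num⟩
  exact CfsgLib.Classical.isSimpleGroup_PSL (by simp)

theorem psl_center : center PSL37 = ⊥ := by
  haveI := psl_simple
  rcases psl_simple.eq_bot_or_eq_top_of_normal (center PSL37) inferInstance with h | h
  · exact h
  · exfalso
    letI : CommGroup PSL37 :=
      { (inferInstance : Group PSL37) with
        mul_comm := fun a b => (Subgroup.mem_center_iff.1 (h ▸ Subgroup.mem_top a : a ∈ center PSL37) b).symm }
    have hp : (Nat.card PSL37).Prime := IsSimpleGroup.prime_card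
    rw [card_psl] at hp
    exact absurd hp (by norm_num)

theorem conj_psl_injective : Function.Injective (MulAut.conj : PSL37 →* MulAut PSL37) := by
  rw [← MonoidHom.ker_eq_bot_iff, eq_bot_iff, ← psl_center]
  intro z hz
  refine Subgroup.mem_center_iff.2 fun m => ?_
  have h := MulEquiv.congr_fun (MonoidHom.mem_ker.1 hz) m
  rw [MulAut.conj_apply, MulAut.one_apply] at h
  calc m * z = z * m * z⁻¹ * z := by rw [h]
    _ = z * m := by group

/-- The inner automorphisms. -/
def Inn : Subgroup (MulAut PSL37) := (MulAut.conj : PSL37 →* MulAut PSL37).range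

instance : Inn.Normal := ⟨by
  rintro _ ⟨n, rfl⟩ φ
  refine ⟨φ n, MulEquiv.ext fun m => ?_⟩
  show φ n * m * (φ n)⁻¹ = φ (n * φ.symm m * n⁻¹)
  rw [map_mul, map_mul, map_inv, φ.apply_symm_apply]⟩

theorem card_Inn : Nat.card Inn = Nat.card PSL37 :=
  (Nat.card_congr (MonoidHom.ofInjective conj_psl_injective).toEquiv).symm

/-- Two subgroups of order twice the inner automorphisms containing them are conjugate. -/
theorem conj_of_double [Finite (MulAut PSL37)] {K L : Subgroup (MulAut PSL37)} (hK : Inn ≤ K) (hL : Inn ≤ L)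
    (hKc : Nat.card K = 2 * Nat.card PSL37) (hLc : Nat.card L = 2 * Nat.card PSL37) :
    ∃ φ : MulAut PSL37, L = K.map (MulAut.conj φ).toMonoidHom := by
  haveI : Fact (Nat.Prime 2) := ⟨Nat.prime_two⟩
  have hidx : Inn.index = 6 := by
    have h := Inn.index_mul_card
    rw [card_Inn, card_aut] at h
    exact Nat.eq_of_mul_eq_mul_right Nat.card_pos h
  set π := QuotientGroup.mk' Inn with hπ
  have hQ : Nat.card (MulAut PSL37 ⧸ Inn) = 6 := by rw [← Subgroup.index_eq_card, hidx]
  have himg : ∀ M : Subgroup (MulAut PSL37), Inn ≤ M → Nat.card M = 2 * Nat.card PSL37 →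
      Nat.card (M.map π) = 2 ^ (Nat.card (MulAut PSL37 ⧸ Inn)).factorization 2 := by
    intro M hM hc
    have h1 : Nat.card (M.map π) = (Inn.subgroupOf M).index := by
      have h2 : (π.comp M.subtype).ker = Inn.subgroupOf M := by
        ext x
        rw [MonoidHom.mem_ker, Subgroup.mem_subgroupOf]
        exact QuotientGroup.eq_one_iff _
      rw [← h2, Subgroup.index_ker, MonoidHom.range_comp, Subgroup.range_subtype]
    have h3 := (Inn.subgroupOf M).index_mul_card
    rw [Nat.card_congr (Subgroup.subgroupOfEquivOfLe hM).toEquiv, card_Inn, hc] at h3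
    rw [h1, Nat.eq_of_mul_eq_mul_right (Nat.card_pos (α := PSL37)) h3, hQ,
      show (6 : ℕ) = 2 ^ 1 * 3 by norm_num, Nat.factorization_mul (by norm_num) (by norm_num),
      Finsupp.add_apply, Nat.prime_two.factorization_pow, Finsupp.single_eq_same,
      Nat.factorization_eq_zero_of_not_dvd (show ¬ 2 ∣ 3 by norm_num)]
    norm_num
  obtain ⟨q, hq⟩ := MulAction.exists_smul_eq (MulAut PSL37 ⧸ Inn)
    (Sylow.ofCard (K.map π) (himg K hK hKc)) (Sylow.ofCard (L.map π) (himg L hL hLc))
  obtain ⟨φ, rfl⟩ := QuotientGroup.mk'_surjective Inn q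
  refine ⟨φ, ?_⟩
  have h1 := congrArg (fun P : Sylow 2 (MulAut PSL37 ⧸ Inn) => (P : Subgroup (MulAut PSL37 ⧸ Inn))) hq
  simp only [Sylow.coe_subgroup_smul, Sylow.coe_ofCard] at h1
  set K' := K.map (MulAut.conj φ).toMonoidHom with hK'
  have hK'le : Inn ≤ K' := by
    intro x hx
    refine ⟨φ⁻¹ * x * φ⁻¹⁻¹, hK ((inferInstance : Inn.Normal).conj_mem x hx φ⁻¹), ?_⟩
    show φ * (φ⁻¹ * x * φ⁻¹⁻¹) * φ⁻¹ = x
    group
  have h2 : K'.map π = L.map π := by
    rw [← h1, hK', Subgroup.map_map]
    refine SetLike.coe_injective ?_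
    show π ∘ (MulAut.conj φ) '' (K : Set (MulAut PSL37)) =
      (fun x => π φ * x * (π φ)⁻¹) '' (π '' (K : Set (MulAut PSL37)))
    rw [Set.image_image]
    exact Set.image_congr fun x _ => by simp
  calc L = (L.map π).comap π := by
        rw [Subgroup.comap_map_eq, hπ, QuotientGroup.ker_mk', sup_eq_left.2 hL]
    _ = (K'.map π).comap π := by rw [h2]
    _ = K' := by rw [Subgroup.comap_map_eq, hπ, QuotientGroup.ker_mk', sup_eq_left.2 hK'le]

/-- A group with a normal subgroup PSL(3,7) of index 2 and trivial centraliser of it, inside the automorphisms. -/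
theorem exists_emb {K : Type*} [Group K] (N : Subgroup K) [N.Normal] (hN : N.index = 2) (eN : N ≃* PSL37)
    (hcent : centralizer (N : Set K) = ⊥) :
    ∃ f : K →* MulAut PSL37, Function.Injective f ∧ Inn ≤ f.range ∧ Nat.card f.range = 2 * Nat.card PSL37 := by
  set f : K →* MulAut PSL37 := (MulAut.congr eN).toMonoidHom.comp (MulAut.conjNormal (H := N)) with hf
  have hinj : Function.Injective f := by
    refine (MulAut.congr eN).injective.comp ?_
    rw [← MonoidHom.ker_eq_bot_iff, eq_bot_iff, ← hcent]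
    intro x hx n hn
    have h := congrArg (fun m : N => (m : K)) (MulEquiv.congr_fun (MonoidHom.mem_ker.1 hx) ⟨n, hn⟩)
    simp only [MulAut.conjNormal_apply, MulAut.one_apply] at h
    calc n * x = x * n * x⁻¹ * x := by rw [h]
      _ = x * n := by group
  refine ⟨f, hinj, ?_, ?_⟩
  · rintro _ ⟨n, rfl⟩
    refine ⟨(eN.symm n : K), MulEquiv.ext fun m => ?_⟩
    show eN (MulAut.conjNormal (eN.symm n : K) (eN.symm m)) = n * m * n⁻¹
    have e : MulAut.conjNormal (eN.symm n : K) (eN.symm m) = eN.symm n * eN.symm m * (eN.symm n)⁻¹ :=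
      Subtype.ext (by simp [MulAut.conjNormal_apply])
    rw [e]
    simp
  · rw [← Nat.card_congr (MonoidHom.ofInjective hinj).toEquiv, ← N.index_mul_card, hN, Nat.card_congr eN.toEquiv]

/-- In O'Nan the centraliser of such a subgroup inside its extension is trivial. -/
theorem cent_bot (hC : Nat.card (centralizer ({gen 5} : Set Cfsg.Spor.ON)) = 161280)
    {H : Subgroup Cfsg.Spor.ON} (N : Subgroup H) [N.Normal] (hN : N.index = 2) (eN : N ≃* PSL37) :
    centralizer (N : Set H) = ⊥ := by
  haveI := CfsgLib.ONanP.finite_ON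
  rw [eq_bot_iff]
  intro z hz
  rw [Subgroup.mem_bot]
  by_contra hne
  have hzN : z ∉ N := by
    intro hm
    have : eN ⟨z, hm⟩ ∈ center PSL37 := Subgroup.mem_center_iff.2 fun m => by
      obtain ⟨n, rfl⟩ := eN.surjective m
      rw [← map_mul, ← map_mul]
      exact congrArg eN (Subtype.ext (hz n n.2))
    rw [psl_center, Subgroup.mem_bot, MulEquiv.map_eq_one_iff] at this
    exact hne (congrArg Subtype.val this)
  have hz2 : z * z = 1 := by
    have hm : z * z ∈ N := Subgroup.mul_self_mem_of_index_two hN z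
    have : eN ⟨z * z, hm⟩ ∈ center PSL37 := Subgroup.mem_center_iff.2 fun m => by
      obtain ⟨n, rfl⟩ := eN.surjective m
      rw [← map_mul, ← map_mul]
      exact congrArg eN (Subtype.ext (mul_mem hz hz n n.2))
    rw [psl_center, Subgroup.mem_bot, MulEquiv.map_eq_one_iff] at this
    exact congrArg Subtype.val this
  have ho : orderOf (z : Cfsg.Spor.ON) = 2 :=
    orderOf_eq_prime (by rw [pow_two, ← Subgroup.coe_mul, hz2, Subgroup.coe_one])
      (fun e => hne (Subtype.ext e))
  obtain ⟨c, hc⟩ := isConj_iff.1 (one_class _ ho)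
  have hle : Nat.card N ≤ Nat.card (centralizer ({gen 5} : Set Cfsg.Spor.ON)) := by
    refine Nat.card_le_card_of_injective (fun n : N => ⟨c⁻¹ * ((n : H) : Cfsg.Spor.ON) * c, ?_⟩) ?_
    · rw [Subgroup.mem_centralizer_singleton_iff]
      have hcomm : ((n : H) : Cfsg.Spor.ON) * (z : Cfsg.Spor.ON) = z * ((n : H) : Cfsg.Spor.ON) :=
        congrArg Subtype.val (hz n n.2)
      rw [← hc] at hcomm
      calc c⁻¹ * ((n : H) : Cfsg.Spor.ON) * c * gen 5
          = c⁻¹ * (((n : H) : Cfsg.Spor.ON) * (c * gen 5 * c⁻¹)) * c := by group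
        _ = c⁻¹ * (c * gen 5 * c⁻¹ * ((n : H) : Cfsg.Spor.ON)) * c := by rw [hcomm]
        _ = gen 5 * (c⁻¹ * ((n : H) : Cfsg.Spor.ON) * c) := by group
    · intro m n e
      have := congrArg Subtype.val e
      simp only [mul_left_inj, mul_right_inj] at this
      exact Subtype.ext (Subtype.ext this)
  rw [hC, Nat.card_congr eN.toEquiv, card_psl] at hle
  omega

/-- Such a subgroup is an automorphic image of the subgroup of the six involutions. -/
theorem exists_aut (hC : Nat.card (centralizer ({gen 5} : Set Cfsg.Spor.ON)) = 161280)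
    {H : Subgroup Cfsg.Spor.ON} (N : Subgroup H) [N.Normal] (hN : N.index = 2) (eN : N ≃* PSL37) :
    ∃ α : Cfsg.Spor.ON ≃* Cfsg.Spor.ON, subH.map α.toMonoidHom = H := by
  haveI := CfsgLib.ONanP.finite_ON
  haveI : Finite PSL37 := Nat.finite_of_card_ne_zero (by rw [card_psl]; norm_num)
  haveI : Finite (MulAut PSL37) := Nat.finite_of_card_ne_zero (by rw [card_aut, card_psl]; norm_num)
  haveI := evenPart_normal
  obtain ⟨e0⟩ := evenPart_iso
  obtain ⟨f, hf, hfle, hfc⟩ := exists_emb N hN eN (cent_bot hC N hN eN)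
  obtain ⟨g, hg, hgle, hgc⟩ := exists_emb evenPart evenPart_index.1 e0 (cent_bot hC evenPart evenPart_index.1 e0)
  obtain ⟨φ, hφ⟩ := conj_of_double hgle hfle hgc hfc
  let ι : subH ≃* H :=
    (((MonoidHom.ofInjective hg).trans (g.range.equivMapOfInjective _ (MulAut.conj φ).injective)).trans
      (MulEquiv.subgroupCongr hφ.symm)).trans (MonoidHom.ofInjective hf).symm
  obtain ⟨α, hα⟩ := extends_all hC (ψ := H.subtype.comp ι.toMonoidHom)
    (Subtype.val_injective.comp ι.injective)
  refine ⟨α, ?_⟩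
  ext y
  constructor
  · rintro ⟨x, hx, rfl⟩
    show α x ∈ H
    rw [show α x = H.subtype (ι ⟨x, hx⟩) from hα ⟨x, hx⟩]
    exact (ι ⟨x, hx⟩).2
  · intro hy
    obtain ⟨x, hx⟩ := ι.surjective ⟨y, hy⟩
    exact ⟨x, x.2, (hα x).trans (by show ((ι x : H) : Cfsg.Spor.ON) = y; rw [hx])⟩

end CfsgLib.ONanRec.Sub
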