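import Cfsg.Agent.Lib.ONanRec.Sub.Class
import Cfsg.Agent.Lib.ONanP.Stabilisers
import Cfsg.Agent.Lib.ONanRec.End

/-!
# Copies of the subgroup of the six involutions in O'Nan are its images under automorphisms

An injective homomorphism of the subgroup is moved by conjugations until the last involution and the first one
are fixed and the third is one of four representatives; then the finitely many possibilities for the others all
extend to the seven generators.
-/

set_option autoImplicit false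
set_option maxRecDepth 100000

namespace CfsgLib.ONanRec.Sub

open CfsgLib.ONanP CfsgLib.PresCert Cfsg.Spor
open CfsgLib.ONanP.Out (eqG)

attribute [local irreducible] xWords xMul xConj cConj xSort qWords qGens qRoot swapWord tuples cReps dLists beLists
  bList eList

/-- The restriction to the six involutions of an automorphism. -/
def Extends (ψ : subH →* Cfsg.Spor.ON) : Prop :=
  ∃ α : Cfsg.Spor.ON ≃* Cfsg.Spor.ON, ∀ x : subH, α (x : Cfsg.Spor.ON) = ψ x

/-- The image of an involution. -/
noncomputable def img (ψ : subH →* Cfsg.Spor.ON) (k : ℕ) : Cfsg.Spor.ON := ψ (hGen k)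

/-- Conjugation after a homomorphism. -/
noncomputable def conjBy (g : Cfsg.Spor.ON) (ψ : subH →* Cfsg.Spor.ON) : subH →* Cfsg.Spor.ON :=
  (MulAut.conj g).toMonoidHom.comp ψ

theorem img_conjBy (g : Cfsg.Spor.ON) (ψ : subH →* Cfsg.Spor.ON) (k : ℕ) :
    img (conjBy g ψ) k = g * img ψ k * g⁻¹ := rfl

theorem conjBy_injective (g : Cfsg.Spor.ON) {ψ : subH →* Cfsg.Spor.ON} (hψ : Function.Injective ψ) :
    Function.Injective (conjBy g ψ) := (MulAut.conj g).injective.comp hψ

theorem extends_of_conjBy {g : Cfsg.Spor.ON} {ψ : subH →* Cfsg.Spor.ON} (h : Extends (conjBy g ψ)) :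
    Extends ψ := by
  obtain ⟨α, hα⟩ := h
  refine ⟨α.trans (MulAut.conj g).symm, fun x => ?_⟩
  rw [MulEquiv.trans_apply, hα x]
  exact (MulAut.conj g).symm_apply_apply _

theorem act_comp {M N : Type*} [Group M] [Group N] (h : M →* N) (q : ℕ → M) :
    ∀ w : List ℕ, act (fun k => h (q k)) w = h (act q w)
  | [] => (map_one h).symm
  | g :: w => by rw [act_cons, act_cons, act_comp h q w, map_mul]

theorem act_expand (s : ℕ → List ℕ) : ∀ w : List ℕ,
    act gen (w.flatMap s) = act (fun k => act gen (s k)) w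
  | [] => rfl
  | g :: w => by rw [act_cons, List.flatMap_cons, act_append, act_expand s w]

theorem act_congr' {M : Type*} [Group M] {q q' : ℕ → M} :
    ∀ {w : List ℕ}, (∀ g ∈ w, q g = q' g) → act q w = act q' w
  | [], _ => rfl
  | g :: w, h => by
    rw [act_cons, act_cons, act_congr' fun a ha => h a (List.mem_cons_of_mem g ha), h g List.mem_cons_self]

/-- Words in the six letters with one value have one image. -/
theorem img_eq (ψ : subH →* Cfsg.Spor.ON) {u v : List ℕ} (hu : ∀ g ∈ u, g < 6) (hv : ∀ g ∈ v, g < 6)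
    (h : eqG u v = true) : act (img ψ) u = act (img ψ) v := by
  have e := eq_of_eqG (fun g hg => lt_trans (hu g hg) (by norm_num)) (fun g hg => lt_trans (hv g hg) (by norm_num)) h
  rw [← hGen_act hu, ← hGen_act hv] at e
  show act (fun k => ψ (hGen k)) u = act (fun k => ψ (hGen k)) v
  rw [act_comp, act_comp, Subtype.ext e]

/-- Words in the six letters with different values have different images. -/
theorem img_ne {ψ : subH →* Cfsg.Spor.ON} (hψ : Function.Injective ψ) {u v : List ℕ} (hu : ∀ g ∈ u, g < 6)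
    (hv : ∀ g ∈ v, g < 6) (h : eqG u v = false) : act (img ψ) u ≠ act (img ψ) v := by
  show act (fun k => ψ (hGen k)) u ≠ act (fun k => ψ (hGen k)) v
  rw [act_comp, act_comp]
  intro e
  have e' : act gen u = act gen v := by rw [← hGen_act hu, ← hGen_act hv, hψ e]
  rw [eqG_of_eq (fun g hg => lt_trans (hu g hg) (by norm_num)) (fun g hg => lt_trans (hv g hg) (by norm_num)) e'] at h
  exact Bool.noConfusion h

/-- Facts on the six involutions that are read off the table. -/
theorem six_checks :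
    [[0, 0], [1, 1], [2, 2], [3, 3], [4, 4], [5, 5], [0, 1, 0, 1, 0, 1], [1, 2, 1, 2, 1, 2], [3, 4, 3, 4, 3, 4],
      [4, 5, 4, 5, 4, 5]].all (fun w => eqG w []) = true ∧
    [[0, 2], [0, 3], [0, 4], [0, 5], [1, 3], [1, 5], [2, 4], [2, 5], [3, 5]].all
      (fun w => eqG w w.reverse) = true ∧
    eqG [3, 2, 3, 2, 3, 2, 3, 2] [5, 0] = true ∧
    eqG [5] [] = false ∧ eqG [0] [] = false ∧ eqG [0] [5] = false ∧ eqG [1] [0] = false ∧ eqG [1] [2] = false ∧
    eqG [4] [5] = false ∧ eqG [4] [3] = false := by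
  decide +kernel

theorem img_rel (ψ : subH →* Cfsg.Spor.ON) {w : List ℕ}
    (hw : w ∈ [[0, 0], [1, 1], [2, 2], [3, 3], [4, 4], [5, 5], [0, 1, 0, 1, 0, 1], [1, 2, 1, 2, 1, 2],
      [3, 4, 3, 4, 3, 4], [4, 5, 4, 5, 4, 5]]) : act (img ψ) w = 1 := by
  refine (img_eq ψ ?_ (by simp) (List.all_eq_true.1 six_checks.1 w hw)).trans (act_nil _)
  fin_cases hw <;> decide

theorem img_comm (ψ : subH →* Cfsg.Spor.ON) {x y : ℕ}
    (hw : [x, y] ∈ [[0, 2], [0, 3], [0, 4], [0, 5], [1, 3], [1, 5], [2, 4], [2, 5], [3, 5]]) :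
    Commute (img ψ x) (img ψ y) := by
  have hl : ∀ g ∈ [x, y], g < 6 := by
    intro g hg
    simp only [List.mem_cons, List.cons.injEq, and_true, List.not_mem_nil, or_false] at hw hg
    omega
  have e := img_eq ψ hl (v := [x, y].reverse) (fun g hg => hl g (List.mem_reverse.1 hg))
    (List.all_eq_true.1 six_checks.2.1 _ hw)
  simp only [List.reverse_cons, List.reverse_nil, List.nil_append, List.cons_append, act_cons, act_nil,
    one_mul] at e
  exact e.symm

/-- Two involutions whose product has order dividing 3 are conjugate by the product. -/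
theorem conj_of_cube {M : Type*} [Group M] {u v : M} (hu : u * u = 1) (hv : v * v = 1)
    (h : u * v * (u * v) * (u * v) = 1) : u * v * u * (u * v)⁻¹ = v := by
  have hu' : u⁻¹ = u := inv_eq_of_mul_eq_one_right hu
  have hv' : v⁻¹ = v := inv_eq_of_mul_eq_one_right hv
  rw [mul_inv_rev, hu', hv']
  have h1 : u * v * u * (v * u) * v = 1 := by simpa only [mul_assoc] using h
  exact (eq_inv_of_mul_eq_one_left h1).trans hv'

/-- The product has order dividing 3. -/
def Cube {M : Type*} [Group M] (u v : M) : Prop := u * v * (u * v) * (u * v) = 1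

theorem Cube.symm {M : Type*} [Group M] {u v : M} (h : Cube u v) : Cube v u := by
  unfold Cube at h ⊢
  calc v * u * (v * u) * (v * u) = u⁻¹ * (u * v * (u * v) * (u * v)) * u := by group
    _ = 1 := by rw [h]; group

theorem img_cube (ψ : subH →* Cfsg.Spor.ON) {x y : ℕ}
    (hw : [x, y, x, y, x, y] ∈ [[0, 0], [1, 1], [2, 2], [3, 3], [4, 4], [5, 5], [0, 1, 0, 1, 0, 1],
      [1, 2, 1, 2, 1, 2], [3, 4, 3, 4, 3, 4], [4, 5, 4, 5, 4, 5]]) : Cube (img ψ y) (img ψ x) := by
  have h := img_rel ψ hw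
  simpa only [act_cons, act_nil, one_mul, Cube, mul_assoc] using h

theorem img_sq (ψ : subH →* Cfsg.Spor.ON) {x : ℕ} (hx : x < 6) : img ψ x * img ψ x = 1 := by
  have h := img_rel ψ (w := [x, x]) (by interval_cases x <;> simp)
  simpa only [act_cons, act_nil, one_mul] using h

theorem img_single_ne {ψ : subH →* Cfsg.Spor.ON} (hψ : Function.Injective ψ) {x y : ℕ} (hx : x < 6) (hy : y < 6)
    (h : eqG [x] [y] = false) : img ψ x ≠ img ψ y := by
  have := img_ne hψ (u := [x]) (v := [y]) (by simpa using hx) (by simpa using hy) h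
  simpa only [act_cons, act_nil, one_mul] using this

theorem img_ne_one {ψ : subH →* Cfsg.Spor.ON} (hψ : Function.Injective ψ) {x : ℕ} (hx : x < 6)
    (h : eqG [x] [] = false) : img ψ x ≠ 1 := by
  have := img_ne hψ (u := [x]) (v := []) (by simpa using hx) (by simp) h
  simpa only [act_cons, act_nil, one_mul] using this

theorem eqG_false {p q : List ℕ} (hp : ∀ g ∈ p, g < 8) (hq : ∀ g ∈ q, g < 8)
    (h : act gen p ≠ act gen q) : eqG p q = false :=
  Bool.eq_false_iff.2 fun e => h (eq_of_eqG hp hq e)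

theorem cubeB_of {p q : List ℕ} (hp : ∀ g ∈ p, g < 8) (hq : ∀ g ∈ q, g < 8)
    (h : Cube (act gen p) (act gen q)) : cubeB p q = true := by
  refine eqG_of_eq (lt_append (lt_append (lt_append (lt_append (lt_append hp hq) hp) hq) hp) hq) (by simp) ?_
  have h' := h.symm
  simpa only [act_append, act_nil, Cube, mul_assoc] using h'

variable (hC : Nat.card (Subgroup.centralizer ({gen 5} : Set Cfsg.Spor.ON)) = 161280)
include hC

theorem mem_centF {h : Cfsg.Spor.ON} (hh : Commute h (gen 5)) : h ∈ centF := by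
  rw [centF_eq hC]
  exact Subgroup.mem_centralizer_singleton_iff.2 hh.eq

/-- A neighbour of a conjugate of a is one. -/
theorem xEl_step {u v : Cfsg.Spor.ON} (hu : ∃ i < 630, u = xEl i) (huf : Commute u (gen 5))
    (hvf : Commute v (gen 5)) (hu2 : u * u = 1) (hv2 : v * v = 1) (h : Cube u v) : ∃ j < 630, v = xEl j := by
  obtain ⟨i, hi, rfl⟩ := hu
  obtain ⟨j, hj, e⟩ := xEl_closed (mem_centF hC (huf.mul_left hvf)) hi
  exact ⟨j, hj, (conj_of_cube hu2 hv2 h).symm.trans e⟩

/-- A neighbour of a conjugate of f in the centraliser of a is one. -/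
theorem yEl_step {u v : Cfsg.Spor.ON} (hu : ∃ i < 630, u = yEl i) (hua : Commute u (gen 0))
    (hva : Commute v (gen 0)) (hu2 : u * u = 1) (hv2 : v * v = 1) (h : Cube u v) : ∃ j < 630, v = yEl j := by
  obtain ⟨i, hi, rfl⟩ := hu
  set k := yEl i * v with hk
  have hka : Commute k (gen 0) := hua.mul_left hva
  have hkc : Commute (swapEl⁻¹ * k * swapEl) (gen 5) := by
    have h1 : gen 5 = swapEl⁻¹ * gen 0 * swapEl := by rw [← swap_spec.2.1]; group
    rw [h1]
    show swapEl⁻¹ * k * swapEl * (swapEl⁻¹ * gen 0 * swapEl) = swapEl⁻¹ * gen 0 * swapEl * (swapEl⁻¹ * k * swapEl)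
    calc swapEl⁻¹ * k * swapEl * (swapEl⁻¹ * gen 0 * swapEl) = swapEl⁻¹ * (k * gen 0) * swapEl := by group
      _ = swapEl⁻¹ * (gen 0 * k) * swapEl := by rw [hka.eq]
      _ = swapEl⁻¹ * gen 0 * swapEl * (swapEl⁻¹ * k * swapEl) := by group
  obtain ⟨j, hj, e⟩ := xEl_closed (mem_centF hC hkc) hi
  refine ⟨j, hj, (conj_of_cube hu2 hv2 h).symm.trans ?_⟩
  rw [← hk, yEl_eq, yEl_eq, ← e]
  group

omit hC in
theorem tW_lt {u : ℕ × ℕ × ℕ × ℕ × List ℕ} (hu : u ∈ tuples) (g : ℕ) (hg : g < 8) : ∀ a ∈ tW u g, a < 8 := by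
  have hm : ∀ a ∈ u.2.2.2.2, a < 8 := letters_mem (List.mem_cons_of_mem _ (List.mem_append_right _
    (List.mem_map.2 ⟨u, hu, rfl⟩)))
  unfold tW
  split_ifs
  exacts [xW_lt _, rW_lt _, yW_lt _, yW_lt _, hm, invWord_lt hm, single_lt hg]

omit hC in
/-- A tuple of the table is the restriction of an endomorphism. -/
theorem hom_of_tuple {u : ℕ × ℕ × ℕ × ℕ × List ℕ} (hu : u ∈ tuples) :
    ∃ φ : Cfsg.Spor.ON →* Cfsg.Spor.ON, ∀ g < 6, φ (gen g) = act gen (tW u g) := by
  set q : ℕ → Cfsg.Spor.ON := fun g => act gen (tW u g) with hq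
  have hlt : ∀ (w : List ℕ), (∀ g ∈ w, g < 8) → ∀ a ∈ w.flatMap (tW u), a < 8 := fun w hw a ha => by
    obtain ⟨g, hg, ha'⟩ := List.mem_flatMap.1 ha
    exact tW_lt hu g (hw g hg) a ha'
  have hlett : ∀ r ∈ presRels, ∀ g ∈ r, g < 8 := by
    intro r hr g hg
    obtain ⟨r, -, rfl⟩ := List.mem_map.1 hr
    obtain ⟨⟨x, b⟩, -, rfl⟩ := List.mem_map.1 (List.mem_reverse.1 hg)
    cases x <;> cases b <;> decide
  have hrel : ∀ r ∈ presRels, act q r = 1 := by
    intro r hr
    have h := List.all_eq_true.1 (List.all_eq_true.1 tup_ok u hu) r hr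
    have e := eq_of_eqG (hlt r (hlett r hr)) (by simp) h
    rw [act_expand, act_nil] at e
    exact e
  have hinv7 : q 7 = (q 6)⁻¹ := by
    have hm : ∀ a ∈ u.2.2.2.2, a < 8 := letters_mem (List.mem_cons_of_mem _ (List.mem_append_right _
      (List.mem_map.2 ⟨u, hu, rfl⟩)))
    show act gen (tW u 7) = (act gen (tW u 6))⁻¹
    simp only [tW, show (7 : ℕ) ≠ 1 by norm_num, show (7 : ℕ) ≠ 2 by norm_num, show (7 : ℕ) ≠ 3 by norm_num,
      show (7 : ℕ) ≠ 4 by norm_num, show (7 : ℕ) ≠ 6 by norm_num, show (6 : ℕ) ≠ 1 by norm_num,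
      show (6 : ℕ) ≠ 2 by norm_num, show (6 : ℕ) ≠ 3 by norm_num, show (6 : ℕ) ≠ 4 by norm_num, if_false, if_true]
    exact act_invWord hm
  have hsq : ∀ g, g < 6 → q g * q g = 1 := by
    intro g hg
    have h := hrel [g, g] (by
      have key : ((List.range 6).all fun i => presRels.contains [i, i]) = true := by decide +kernel
      exact List.contains_iff_mem.1 (List.all_eq_true.1 key g (List.mem_range.2 hg)))
    simpa only [act_cons, act_nil, one_mul] using h
  have hinv : ∀ x : ON.Gen, q (invIx (genIx x)) = (q (genIx x))⁻¹ := by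
    intro x
    cases x
    case g => exact hinv7
    all_goals exact eq_inv_of_mul_eq_one_left (hsq _ (by decide))
  have hlift : ∀ L : List (ON.Gen × Bool),
      FreeGroup.lift (fun x => q (genIx x)) (FreeGroup.mk L) = act q (L.map letter).reverse := by
    intro L
    induction L with
    | nil =>
      rw [← FreeGroup.one_eq_mk, map_one]
      rfl
    | cons p L ih =>
      obtain ⟨x, b⟩ := p
      rw [show FreeGroup.mk ((x, b) :: L) = FreeGroup.mk [(x, b)] * FreeGroup.mk L from rfl, map_mul,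
        ih, List.map_cons, List.reverse_cons, act_append, act_cons, act_nil, one_mul]
      congr 1
      cases b
      · rw [show FreeGroup.mk [(x, false)] = (FreeGroup.of x)⁻¹ from rfl, map_inv, FreeGroup.lift_apply_of]
        exact (hinv x).symm
      · exact FreeGroup.lift_apply_of
  refine ⟨PresentedGroup.toGroup (f := fun x => q (genIx x)) fun r hr => ?_, fun g hg => ?_⟩
  · rw [← FreeGroup.mk_toWord (x := r), hlift]
    exact hrel _ (List.mem_map.2 ⟨r, relList_mem.2 hr, rfl⟩)
  · have hix : genIx (genAt g) = g := by interval_cases g <;> rfl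
    conv_lhs => rw [← hix, gen_ix]
    refine (PresentedGroup.toGroup.of _).trans ?_
    rw [hix]

/-- The last step: the first, third and last involutions are fixed. -/
theorem extends_of_frame {ψ : subH →* Cfsg.Spor.ON} (hψ : Function.Injective ψ) (h5 : img ψ 5 = gen 5)
    (h0 : img ψ 0 = gen 0) {r : ℕ} (hr : r < 4) (h2 : img ψ 2 = act gen (rW r)) : Extends ψ := by
  obtain ⟨-, -, hpow, -, -, -, n10, n12, n45, n43⟩ := six_checks
  have e0 : act gen [0] = gen 0 := act_single 0
  have e5 : act gen [5] = gen 5 := act_single 5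
  have l0 : ∀ g ∈ [0], g < 8 := single_lt (by norm_num)
  have l5 : ∀ g ∈ [5], g < 8 := single_lt (by norm_num)
  obtain ⟨k, hk, h1⟩ : ∃ k < 630, img ψ 1 = xEl k := by
    refine xEl_step hC (u := img ψ 0) ⟨0, by norm_num, by rw [h0, swap_spec.2.2]⟩ ?_ ?_ (img_sq ψ (by norm_num))
      (img_sq ψ (by norm_num)) (img_cube ψ (x := 0) (y := 1) (by simp)).symm
    · rw [← h5]; exact img_comm ψ (by simp)
    · rw [← h5]; exact img_comm ψ (by simp)
  obtain ⟨l, hl, h4⟩ : ∃ l < 630, img ψ 4 = yEl l := by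
    refine yEl_step hC (u := img ψ 5) ⟨0, by norm_num, by rw [h5, yEl_zero]⟩ ?_ ?_ (img_sq ψ (by norm_num))
      (img_sq ψ (by norm_num)) (img_cube ψ (x := 4) (y := 5) (by simp))
    · rw [← h0]; exact (img_comm ψ (x := 0) (y := 5) (by simp)).symm
    · rw [← h0]; exact (img_comm ψ (x := 0) (y := 4) (by simp)).symm
  obtain ⟨j, hj, h3⟩ : ∃ j < 630, img ψ 3 = yEl j := by
    refine yEl_step hC (u := img ψ 4) ⟨l, hl, h4⟩ ?_ ?_ (img_sq ψ (by norm_num))
      (img_sq ψ (by norm_num)) (img_cube ψ (x := 3) (y := 4) (by simp))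
    · rw [← h0]; exact (img_comm ψ (x := 0) (y := 4) (by simp)).symm
    · rw [← h0]; exact (img_comm ψ (x := 0) (y := 3) (by simp)).symm
  have hjr : j ∈ dLists.getD r [] := by
    have h := List.all_eq_true.1 (List.all_eq_true.1 d_ok r (List.mem_range.2 hr)) j (List.mem_range.2 hj)
    have c1 : commB (yW j) [5] = true := by
      refine (commB_iff (yW_lt j) l5).2 ?_
      rw [e5, ← h5, show act gen (yW j) = img ψ 3 from h3.symm]
      exact img_comm ψ (by simp)
    have c2 : eqG (yW j ++ rW r ++ yW j ++ rW r ++ yW j ++ rW r ++ yW j ++ rW r) [5, 0] = true := by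
      refine eqG_of_eq (lt_append (lt_append (lt_append (lt_append (lt_append (lt_append (lt_append (yW_lt j)
        (rW_lt r)) (yW_lt j)) (rW_lt r)) (yW_lt j)) (rW_lt r)) (yW_lt j)) (rW_lt r)) (by simp) ?_
      have e := img_eq ψ (u := [3, 2, 3, 2, 3, 2, 3, 2]) (v := [5, 0]) (by decide) (by decide) hpow
      simp only [act_cons, act_nil, one_mul, h0, h5, h2, h3, yEl] at e
      simpa only [act_append, act_cons, act_nil, one_mul, mul_assoc] using e
    simp only [dOk, c1, c2, Bool.not_true, Bool.false_or] at h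
    exact List.contains_iff_mem.1 h
  obtain ⟨t, ht, htr, htj⟩ : ∃ t ∈ beLists, t.1 = r ∧ t.2.1 = j := by
    have h := List.all_eq_true.1 (List.all_eq_true.1 pair_ok r (List.mem_range.2 hr)) j hjr
    simp only [List.any_eq_true, Bool.and_eq_true, Nat.beq_eq] at h
    obtain ⟨t, ht, h1, h2⟩ := h
    exact ⟨t, ht, h1, h2⟩
  have hbe := List.all_eq_true.1 be_ok t ht
  simp only [beOk, Bool.and_eq_true, List.all_eq_true, htr, htj] at hbe
  have hpre := List.all_eq_true.1 pre_ok
  have hkb : k ∈ t.2.2.1 := by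
    have p := hpre k (List.mem_range.2 hk)
    simp only [preOk, Bool.and_eq_true] at p
    have a1 : cubeB (xW k) [0] = true := by
      refine cubeB_of (xW_lt k) l0 ?_
      rw [e0, ← h0, show act gen (xW k) = img ψ 1 from h1.symm]
      exact img_cube ψ (by simp)
    have a2 : eqG (xW k) [0] = false := by
      refine eqG_false (xW_lt k) l0 ?_
      rw [e0, ← h0, show act gen (xW k) = img ψ 1 from h1.symm]
      exact img_single_ne hψ (by norm_num) (by norm_num) n10
    have hkl : k ∈ bList := by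
      simpa only [a1, a2, Bool.not_true, Bool.false_or, List.contains_iff_mem] using p.1
    have c1 : commB (xW k) (yW j) = true := by
      refine (commB_iff (xW_lt k) (yW_lt j)).2 ?_
      rw [show act gen (xW k) = img ψ 1 from h1.symm, show act gen (yW j) = img ψ 3 from h3.symm]
      exact img_comm ψ (by simp)
    have c2 : cubeB (xW k) (rW r) = true := by
      refine cubeB_of (xW_lt k) (rW_lt r) ?_
      rw [← h2, show act gen (xW k) = img ψ 1 from h1.symm]
      exact (img_cube ψ (x := 1) (y := 2) (by simp)).symm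
    have c3 : eqG (xW k) (rW r) = false := by
      refine eqG_false (xW_lt k) (rW_lt r) ?_
      rw [← h2, show act gen (xW k) = img ψ 1 from h1.symm]
      exact img_single_ne hψ (by norm_num) (by norm_num) n12
    simpa only [c1, c2, c3, Bool.not_true, Bool.false_or, List.contains_iff_mem] using hbe.1 k hkl
  have hle : l ∈ t.2.2.2 := by
    have p := hpre l (List.mem_range.2 hl)
    simp only [preOk, Bool.and_eq_true] at p
    have a1 : cubeB (yW l) [5] = true := by
      refine cubeB_of (yW_lt l) l5 ?_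
      rw [e5, ← h5, show act gen (yW l) = img ψ 4 from h4.symm]
      exact (img_cube ψ (x := 4) (y := 5) (by simp)).symm
    have a2 : eqG (yW l) [5] = false := by
      refine eqG_false (yW_lt l) l5 ?_
      rw [e5, ← h5, show act gen (yW l) = img ψ 4 from h4.symm]
      exact img_single_ne hψ (by norm_num) (by norm_num) n45
    have hll : l ∈ eList := by
      simpa only [a1, a2, Bool.not_true, Bool.false_or, List.contains_iff_mem] using p.2
    have c1 : commB (yW l) (rW r) = true := by
      refine (commB_iff (yW_lt l) (rW_lt r)).2 ?_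
      rw [show act gen (yW l) = img ψ 4 from h4.symm, ← h2]
      exact (img_comm ψ (x := 2) (y := 4) (by simp)).symm
    have c2 : cubeB (yW l) (yW j) = true := by
      refine cubeB_of (yW_lt l) (yW_lt j) ?_
      rw [show act gen (yW l) = img ψ 4 from h4.symm, show act gen (yW j) = img ψ 3 from h3.symm]
      exact img_cube ψ (by simp)
    have c3 : eqG (yW l) (yW j) = false := by
      refine eqG_false (yW_lt l) (yW_lt j) ?_
      rw [show act gen (yW l) = img ψ 4 from h4.symm, show act gen (yW j) = img ψ 3 from h3.symm]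
      exact img_single_ne hψ (by norm_num) (by norm_num) n43
    simpa only [c1, c2, c3, Bool.not_true, Bool.false_or, List.contains_iff_mem] using hbe.2 l hll
  obtain ⟨u, hu, hu1, hu2, hu3, hu4⟩ : ∃ u ∈ tuples, u.1 = r ∧ u.2.1 = j ∧ u.2.2.1 = k ∧ u.2.2.2.1 = l := by
    have h := List.all_eq_true.1 (List.all_eq_true.1 (List.all_eq_true.1 cover_ok t ht) k hkb) l hle
    simp only [List.any_eq_true, Bool.and_eq_true, Nat.beq_eq, htr, htj] at h
    obtain ⟨u, hu, ⟨⟨a, b⟩, c⟩, d⟩ := h
    exact ⟨u, hu, a, b, c, d⟩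
  obtain ⟨φ, hφ⟩ := hom_of_tuple hu
  have hagree : ∀ g < 6, φ (gen g) = img ψ g := by
    intro g hg
    rw [hφ g hg]
    interval_cases g <;>
      simp [tW, hu1, hu2, hu3, hu4, h0, h1, h2, h3, h4, h5, e0, e5, xEl, yEl]
  haveI := CfsgLib.ONanP.finite_ON
  have hinj : Function.Injective φ := by
    refine CfsgLib.ONanRec.hom_injective (t := gen 5) ?_ φ (by rw [hagree 5 (by norm_num), h5])
    exact orderOf_eq_prime (by rw [pow_two]; exact gen_sq (by norm_num)) CfsgLib.ONanRec.gen_five_ne
  refine ⟨MulEquiv.ofBijective φ (Finite.injective_iff_bijective.1 hinj), ?_⟩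
  intro x
  have key : φ.comp subH.subtype = ψ := by
    refine MonoidHom.eq_of_eqOn_dense (s := Set.range fun g : Fin 6 => hGen g) ?_ ?_
    · rw [eq_top_iff]
      rintro ⟨m, hm⟩ -
      induction hm using Subgroup.closure_induction with
      | mem m hm =>
        obtain ⟨w, hw, rfl⟩ := hm
        obtain ⟨i, hi, rfl⟩ := List.mem_map.1 hw
        refine Subgroup.subset_closure ⟨⟨i, List.mem_range.1 hi⟩, Subtype.ext ?_⟩
        show ((hGen i : subH) : Cfsg.Spor.ON) = act gen [i]
        simp only [hGen, List.mem_range.1 hi, dite_true, act_cons, act_nil, one_mul]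
      | one => exact one_mem _
      | mul a b ha hb p q => exact mul_mem p q
      | inv a ha p => exact inv_mem p
    · rintro _ ⟨g, rfl⟩
      show φ ((hGen g : subH) : Cfsg.Spor.ON) = img ψ g
      rw [hGen, dif_pos g.2]
      exact hagree g g.2
  exact congrArg (fun χ : subH →* Cfsg.Spor.ON => χ x) key

/-- The third involution is moved to a representative. -/
theorem extends_of_two {ψ : subH →* Cfsg.Spor.ON} (hψ : Function.Injective ψ) (h5 : img ψ 5 = gen 5)
    (h0 : img ψ 0 = gen 0) : Extends ψ := by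
  obtain ⟨k, hk, h1⟩ : ∃ k < 630, img ψ 1 = xEl k := by
    refine xEl_step hC (u := img ψ 0) ⟨0, by norm_num, by rw [h0, swap_spec.2.2]⟩ ?_ ?_ (img_sq ψ (by norm_num))
      (img_sq ψ (by norm_num)) (img_cube ψ (x := 0) (y := 1) (by simp)).symm
    · rw [← h5]; exact img_comm ψ (by simp)
    · rw [← h5]; exact img_comm ψ (by simp)
  obtain ⟨i, hi, h2⟩ : ∃ i < 630, img ψ 2 = xEl i := by
    refine xEl_step hC (u := img ψ 1) ⟨k, hk, h1⟩ ?_ ?_ (img_sq ψ (by norm_num))
      (img_sq ψ (by norm_num)) (img_cube ψ (x := 1) (y := 2) (by simp)).symm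
    · rw [← h5]; exact img_comm ψ (by simp)
    · rw [← h5]; exact img_comm ψ (by simp)
  have h := List.all_eq_true.1 c_ok i (List.mem_range.2 hi)
  have c1 : commB (xW i) [0] = true := by
    refine (commB_iff (xW_lt i) (single_lt (by norm_num))).2 ?_
    rw [act_single, ← h0, show act gen (xW i) = img ψ 2 from h2.symm]
    exact (img_comm ψ (x := 0) (y := 2) (by simp)).symm
  simp only [cOk, c1, Bool.not_true, Bool.false_or, Bool.and_eq_true, Nat.blt_eq] at h
  obtain ⟨⟨⟨hr, d0⟩, d5⟩, he⟩ := h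
  have hd : ∀ g ∈ cD i, g < 8 := by
    unfold cD
    rcases Nat.lt_or_ge i cConj.length with hl | hl
    · rw [List.getD_eq_getElem _ _ hl]
      exact letters_mem (List.mem_cons_of_mem _ (List.mem_append_left _ (List.mem_append_right _
        (List.mem_map.2 ⟨_, List.getElem_mem _, rfl⟩))))
    · rw [List.getD_eq_default _ _ hl]; simp
  have e := eq_of_eqG (lt_append (lt_append hd (rW_lt _)) (invWord_lt hd)) (xW_lt i) he
  rw [act_append, act_append, act_invWord hd] at e
  set δ := act gen (cD i) with hδ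
  have f0 : δ * gen 0 * δ⁻¹ = gen 0 := by
    have c := (commB_iff hd (single_lt (by norm_num))).1 d0
    rw [act_single] at c
    rw [c.eq, mul_inv_cancel_right]
  have f5 : δ * gen 5 * δ⁻¹ = gen 5 := by
    have c := (commB_iff hd (single_lt (by norm_num))).1 d5
    rw [act_single] at c
    rw [c.eq, mul_inv_cancel_right]
  refine extends_of_conjBy (g := δ) (extends_of_frame hC (conjBy_injective δ hψ) ?_ ?_ hr ?_)
  · rw [img_conjBy, h5, f5]
  · rw [img_conjBy, h0, f0]
  · rw [img_conjBy, h2, xEl, ← e]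
    group

/-- The first involution is moved to a. -/
theorem extends_of_last {ψ : subH →* Cfsg.Spor.ON} (hψ : Function.Injective ψ) (h5 : img ψ 5 = gen 5) :
    Extends ψ := by
  haveI := CfsgLib.ONanP.finite_ON
  haveI : Fact (Nat.Prime 2) := ⟨Nat.prime_two⟩
  obtain ⟨-, -, hpow, -, n0, n05, -⟩ := six_checks
  set x := img ψ 0 with hx
  set h := img ψ 2 * img ψ 3 with hh
  have hxf : Commute x (gen 5) := by rw [← h5]; exact img_comm ψ (by simp)
  have hhf : Commute h (gen 5) := by
    rw [← h5]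
    exact (img_comm ψ (x := 2) (y := 5) (by simp)).mul_left (img_comm ψ (x := 3) (y := 5) (by simp))
  have hh4 : h * h * h * h = x * gen 5 := by
    have e := img_eq ψ (u := [3, 2, 3, 2, 3, 2, 3, 2]) (v := [5, 0]) (by decide) (by decide) hpow
    rw [← h5]
    simpa only [act_cons, act_nil, one_mul, mul_assoc, hx, hh] using e
  have hx2 : x * x = 1 := img_sq ψ (by norm_num)
  have hf2 : gen 5 * gen 5 = 1 := gen_sq (by norm_num)
  have hh8 : h ^ 2 ^ 3 = 1 := by
    rw [show (2 : ℕ) ^ 3 = 4 + 4 by norm_num, pow_add, show h ^ 4 = h * h * h * h by simp [pow_succ], hh4]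
    calc x * gen 5 * (x * gen 5) = x * (gen 5 * x) * gen 5 := by group
      _ = x * x * (gen 5 * gen 5) := by rw [← hxf.eq]; group
      _ = 1 := by rw [hx2, hf2, one_mul]
  have hcardF : Nat.card centF = 161280 := by rw [centF_eq hC]; exact hC
  let S : Subgroup centF := qSyl.subgroupOf centF
  have hS : Nat.card S = 2 ^ (Nat.card centF).factorization 2 := by
    rw [Nat.card_congr (Subgroup.subgroupOfEquivOfLe qSyl_le).toEquiv, card_qSyl, hcardF,
      show (161280 : ℕ) = 2 ^ 9 * 315 by norm_num, Nat.factorization_mul (by norm_num) (by norm_num),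
      Finsupp.add_apply, Nat.prime_two.factorization_pow, Finsupp.single_eq_same,
      Nat.factorization_eq_zero_of_not_dvd (show ¬ 2 ∣ 315 by norm_num), Nat.add_zero]
    norm_num
  set h' : centF := ⟨h, mem_centF hC hhf⟩ with hh'
  obtain ⟨j, -, hj⟩ := (Nat.dvd_prime_pow Nat.prime_two).1
    (orderOf_dvd_of_pow_eq_one (show h' ^ 2 ^ 3 = 1 from Subtype.ext hh8))
  obtain ⟨P, hP⟩ := (IsPGroup.of_card (p := 2) (n := j) (by rw [Nat.card_zpowers, hj]) :
    IsPGroup 2 (Subgroup.zpowers h')).exists_le_sylow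
  obtain ⟨g, hg⟩ := MulAction.exists_smul_eq centF P (Sylow.ofCard S hS)
  have hmem : (g : Cfsg.Spor.ON) * h * (g : Cfsg.Spor.ON)⁻¹ ∈ qSyl := by
    have h1 := congrArg (fun Q : Sylow 2 centF => (Q : Subgroup centF)) hg
    simp only [Sylow.coe_subgroup_smul, Sylow.coe_ofCard] at h1
    have h2 : g * h' * g⁻¹ ∈ S := by
      rw [← h1]
      exact ⟨h', hP (Subgroup.mem_zpowers h'), rfl⟩
    exact h2
  obtain ⟨i, hi⟩ := mem_el hmem
  set γ : Cfsg.Spor.ON := (g : Cfsg.Spor.ON) with hγ
  have hγf : Commute γ (gen 5) := Subgroup.mem_centralizer_singleton_iff.1 (centF_le g.2)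
  have hw : ∀ a ∈ qW i ++ qW i ++ qW i ++ qW i ++ [5], a < 8 :=
    lt_append (lt_append (lt_append (lt_append (qW_lt _) (qW_lt _)) (qW_lt _)) (qW_lt _)) (single_lt (by norm_num))
  have hq : act gen (qW i ++ qW i ++ qW i ++ qW i ++ [5]) = γ * x * γ⁻¹ := by
    have e : act gen (qW i) = γ * h * γ⁻¹ := hi
    simp only [act_append, act_single, e]
    calc gen 5 * (γ * h * γ⁻¹ * (γ * h * γ⁻¹ * (γ * h * γ⁻¹ * (γ * h * γ⁻¹))))
        = gen 5 * γ * (h * h * h * h) * γ⁻¹ := by group
      _ = γ * (gen 5 * (x * gen 5)) * γ⁻¹ := by rw [hh4, ← hγf.eq]; group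
      _ = γ * x * γ⁻¹ := by rw [hxf.eq, ← mul_assoc (gen 5) (gen 5) x, hf2, one_mul]
  have hro := List.all_eq_true.1 root_ok i (List.mem_range.2 i.2)
  have b1 : eqG (qW i ++ qW i ++ qW i ++ qW i ++ [5]) [] = false := by
    refine eqG_false hw (by simp) ?_
    rw [hq, act_nil]
    intro e
    exact img_ne_one hψ (x := 0) (by norm_num) n0 (conj_eq_one_iff.1 e)
  have b2 : eqG (qW i ++ qW i ++ qW i ++ qW i ++ [5]) [5] = false := by
    refine eqG_false hw (single_lt (by norm_num)) ?_
    rw [hq, act_single]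
    intro e
    refine img_single_ne hψ (x := 0) (y := 5) (by norm_num) (by norm_num) n05 ?_
    rw [h5]
    calc x = γ⁻¹ * (γ * x * γ⁻¹) * γ := by group
      _ = γ⁻¹ * (gen 5 * γ) := by rw [e, mul_assoc]
      _ = gen 5 := by rw [← hγf.eq, inv_mul_cancel_left]
  have b3 : eqG ((qW i ++ qW i ++ qW i ++ qW i ++ [5]) ++ (qW i ++ qW i ++ qW i ++ qW i ++ [5])) [] = true := by
    refine eqG_of_eq (lt_append hw hw) (by simp) ?_
    rw [act_append, hq, act_nil]
    calc γ * x * γ⁻¹ * (γ * x * γ⁻¹) = γ * (x * x) * γ⁻¹ := by group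
      _ = 1 := by rw [hx2]; group
  simp only [rootOk, b1, b2, b3, Bool.not_true, Bool.false_or, Bool.and_eq_true, Nat.blt_eq] at hro
  obtain ⟨hr, he⟩ := hro
  have e := eq_of_eqG hw (xW_lt _) he
  rw [hq] at e
  set u := act gen (xC (qRoot.getD i 0)) with hu
  have huf : Commute u (gen 5) :=
    Subgroup.mem_centralizer_singleton_iff.1 (centF_le (act_centF (xC_mem hr)))
  refine extends_of_conjBy (g := u * γ) (extends_of_two hC (conjBy_injective _ hψ) ?_ ?_)
  · rw [img_conjBy, h5]
    rw [(huf.mul_left hγf).eq, mul_inv_cancel_right]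
  · rw [img_conjBy]
    calc u * γ * x * (u * γ)⁻¹ = u * (γ * x * γ⁻¹) * u⁻¹ := by group
      _ = u * xEl (qRoot.getD i 0) * u⁻¹ := by rw [e]; rfl
      _ = gen 0 := by rw [xEl_conj hr, ← hu]; group

/-- Every injective homomorphism of the subgroup is a restriction of an automorphism. -/
theorem extends_all {ψ : subH →* Cfsg.Spor.ON} (hψ : Function.Injective ψ) : Extends ψ := by
  obtain ⟨-, -, -, n5, -⟩ := six_checks
  obtain ⟨c, hc⟩ := isConj_iff.1 (one_class (img ψ 5)
    (orderOf_eq_prime (by rw [pow_two]; exact img_sq ψ (by norm_num)) (img_ne_one hψ (by norm_num) n5)))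
  refine extends_of_conjBy (g := c⁻¹) (extends_of_last hC (conjBy_injective _ hψ) ?_)
  rw [img_conjBy, ← hc]
  group

end CfsgLib.ONanRec.Sub
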