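import Cfsg.Agent.Lib.ONanRec.Sub.Iso
import Cfsg.Agent.Lib.ONanP.Order

/-!
# The suborbits of O'Nan on 122760 points, for every subgroup L₃(7):2
-/

set_option autoImplicit false

namespace CfsgLib.ONanRec.Sub

open CfsgLib.ONanP CfsgLib.PresCert

/-- The orbit through a root. -/
theorem orbit_card {k s : ℕ} {ls : List Fast.Level} (hk : k < 5)
    (hls : Fast.levelsOk tabH [orbitRoot k] ls = true) (hprod : (ls.map fun l => l.pts.length).prod = s)
    (hc : orbitCount k * s = 3753792) (h0 : 0 < orbitCount k) :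
    (MulAction.orbit subH (cp (rootPt k))).ncard = orbitCount k := by
  haveI := subH_finite.1
  have hst := (Fast.base_tight realisedH hls (hprod ▸ stab_card_le hk rfl hc h0)).1
  rw [hprod] at hst
  have hstab : Nat.card (MulAction.stabilizer subH (cp (rootPt k))) = s := by
    rw [← hst]
    refine Nat.card_congr (Equiv.subtypeEquivRight fun m => ?_)
    rw [MulAction.mem_stabilizer_iff, Fast.mem_fixSub]
    show (m : Cfsg.Spor.ON) • cp (rootPt k) = cp (rootPt k) ↔ _
    rw [← cp_equivariant]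
    constructor
    · intro h j hj
      obtain rfl : j = rootPt k := Fin.ext ((List.mem_singleton.1 hj).trans (rootPt_val hk).symm)
      exact cp_bijective.1 h
    · intro h
      exact congrArg cp (h (rootPt k) (List.mem_singleton.2 (rootPt_val hk)))
  have h := Nat.card_congr (MulAction.orbitProdStabilizerEquivGroup subH (cp (rootPt k)))
  rw [Nat.card_prod, Nat.card_coe_set_eq, hstab, card_subH, ← hc] at h
  exact Nat.eq_of_mul_eq_mul_right (Nat.pos_of_ne_zero fun e => by rw [e, Nat.mul_zero] at hc; omega) h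

/-- The four sizes, for the subgroup of the six involutions. -/
theorem subH_suborbits : ∃ q₁ q₂ q₃ q₄ : Cfsg.Spor.ON ⧸ subH,
    (MulAction.orbit subH q₁).ncard = 6384 ∧ (MulAction.orbit subH q₂).ncard = 5586 ∧
    (MulAction.orbit subH q₃).ncard = 58653 ∧ (MulAction.orbit subH q₄).ncard = 52136 := by
  obtain ⟨l1, l2, l3, l4, p1, p2, p3, p4, -⟩ := levels_checks
  obtain ⟨-, c1, c2, c3, c4⟩ := counts
  refine ⟨cp (rootPt 4), cp (rootPt 2), cp (rootPt 1), cp (rootPt 3), ?_, ?_, ?_, ?_⟩
  · rw [orbit_card (by norm_num) l4 p4 (by rw [c4]) (by rw [c4]; norm_num), c4]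
  · rw [orbit_card (by norm_num) l2 p2 (by rw [c2]) (by rw [c2]; norm_num), c2]
  · rw [orbit_card (by norm_num) l1 p1 (by rw [c1]) (by rw [c1]; norm_num), c1]
  · rw [orbit_card (by norm_num) l3 p3 (by rw [c3]) (by rw [c3]; norm_num), c3]

variable {G : Type*} [Group G] [Finite G]

/-- The index and the suborbits, in a group isomorphic to O'Nan. -/
theorem index_and_suborbits (h : Cfsg.Spor.IsoON G) {t : G} (ht : orderOf t = 2)
    (hcard : Nat.card (Subgroup.centralizer ({t} : Set G)) = 161280) (H : Subgroup G) (N : Subgroup H) [N.Normal]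
    (hN : N.index = 2) (eN : N ≃* PSL37) :
    H.index = 122760 ∧ ∃ q₁ q₂ q₃ q₄ : G ⧸ H, (MulAction.orbit H q₁).ncard = 6384 ∧
      (MulAction.orbit H q₂).ncard = 5586 ∧ (MulAction.orbit H q₃).ncard = 58653 ∧
      (MulAction.orbit H q₄).ncard = 52136 := by
  obtain ⟨e⟩ := h
  have hC : Nat.card (Subgroup.centralizer ({gen 5} : Set Cfsg.Spor.ON)) = 161280 := by
    obtain ⟨c, hc⟩ := isConj_iff.1 (one_class (e t)
      ((orderOf_injective e.toMonoidHom e.injective t).trans ht))
    rw [← hcard]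
    refine Nat.card_congr (Equiv.subtypeEquiv ((MulAut.conj c).toEquiv.trans e.symm.toEquiv) fun x => ?_)
    rw [Subgroup.mem_centralizer_singleton_iff, Subgroup.mem_centralizer_singleton_iff]
    show x * gen 5 = gen 5 * x ↔ e.symm (c * x * c⁻¹) * t = t * e.symm (c * x * c⁻¹)
    rw [← e.injective.eq_iff (a := _ * t)]
    simp only [map_mul, MulEquiv.apply_symm_apply]
    rw [← hc]
    constructor
    · intro hx
      calc c * x * c⁻¹ * (c * gen 5 * c⁻¹) = c * (x * gen 5) * c⁻¹ := by group
        _ = c * (gen 5 * x) * c⁻¹ := by rw [hx]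
        _ = c * gen 5 * c⁻¹ * (c * x * c⁻¹) := by group
    · intro hx
      calc x * gen 5 = c⁻¹ * (c * x * c⁻¹ * (c * gen 5 * c⁻¹)) * c := by group
        _ = c⁻¹ * (c * gen 5 * c⁻¹ * (c * x * c⁻¹)) * c := by rw [hx]
        _ = gen 5 * x := by group
  let f : H ≃* H.map e.toMonoidHom := H.equivMapOfInjective e.toMonoidHom e.injective
  haveI : (N.map f.toMonoidHom).Normal := (inferInstance : N.Normal).map f.toMonoidHom f.surjective
  have hidx : (N.map f.toMonoidHom).index = 2 := by
    rw [Subgroup.index_map_of_bijective f.bijective, hN]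
  obtain ⟨α, hα⟩ := exists_aut hC (H := H.map e.toMonoidHom) (N.map f.toMonoidHom) hidx
    ((N.equivMapOfInjective f.toMonoidHom f.injective).symm.trans eN)
  set β : Cfsg.Spor.ON ≃* G := α.trans e.symm with hβ
  have hH : subH.map β.toMonoidHom = H := by
    rw [show β.toMonoidHom = e.symm.toMonoidHom.comp α.toMonoidHom from rfl, ← Subgroup.map_map, hα,
      Subgroup.map_map, show e.symm.toMonoidHom.comp e.toMonoidHom = MonoidHom.id G from
        MonoidHom.ext fun x => e.symm_apply_apply x, Subgroup.map_id]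
  subst hH
  refine ⟨by rw [Subgroup.index_map_of_bijective β.bijective, index_subH], ?_⟩
  let qm : Cfsg.Spor.ON ⧸ subH → G ⧸ subH.map β.toMonoidHom :=
    Quotient.map' β (fun a b hab => by
      rw [QuotientGroup.leftRel_apply] at hab ⊢
      exact ⟨_, hab, by simp⟩)
  have hqm : Function.Injective qm := by
    rintro ⟨a⟩ ⟨b⟩ hab
    refine Quotient.sound' ?_
    have h1 := QuotientGroup.eq.1 hab
    rw [QuotientGroup.leftRel_apply]
    obtain ⟨y, hy, hy'⟩ := h1
    have : y = a⁻¹ * b := β.injective (by simpa using hy')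
    exact this ▸ hy
  have horb : ∀ q, MulAction.orbit (subH.map β.toMonoidHom) (qm q) = qm '' MulAction.orbit subH q := by
    intro q
    induction q using Quotient.inductionOn' with
    | h a =>
      ext y
      constructor
      · rintro ⟨⟨_, x, hx, rfl⟩, rfl⟩
        refine ⟨_, ⟨⟨x, hx⟩, rfl⟩, ?_⟩
        show ((β (x * a) : G) : G ⧸ subH.map β.toMonoidHom) = _
        rw [map_mul]
        rfl
      · rintro ⟨_, ⟨⟨x, hx⟩, rfl⟩, rfl⟩
        refine ⟨⟨β x, x, hx, rfl⟩, ?_⟩
        show ((β x * β a : G) : G ⧸ subH.map β.toMonoidHom) = ((β (x * a) : G) : G ⧸ subH.map β.toMonoidHom)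
        rw [map_mul]
  obtain ⟨q₁, q₂, q₃, q₄, h1, h2, h3, h4⟩ := subH_suborbits
  refine ⟨qm q₁, qm q₂, qm q₃, qm q₄, ?_, ?_, ?_, ?_⟩ <;>
    rw [horb, Set.ncard_image_of_injective _ hqm] <;> assumption

end CfsgLib.ONanRec.Sub
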